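import Mathlib
import Cfsg.Agent.Lib.StrongEmbedding.ElementaryCentralizers
import Cfsg.Agent.Lib.Tech46.SymplecticRank

/-!
Groups with abelian centralizers of involutions whose Sylow 2-subgroups are neither cyclic nor
normal: the normalizer of a Sylow 2-subgroup is strongly embedded, the involutions fixing a coset
share their centralizer.
-/

set_option autoImplicit false

namespace CfsgLib.AbelInv

open Cfsg (IsStronglyEmbedded)
open CfsgLib.Involutions CfsgLib.StrongEmbedding
open CfsgLib.StrongEmbedding.ElementaryCentralizers (normT base mem_normT_iff)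

variable {G : Type*} [Group G]

/-- The standing hypotheses. -/
structure Hyp (T : Sylow 2 G) : Prop where
  not_cyclic : ¬ IsCyclic (T : Subgroup G)
  not_normal : ¬ (T : Subgroup G).Normal
  ab : ∀ t : G, orderOf t = 2 → IsMulCommutative (Subgroup.centralizer ({t} : Set G))

/-- The centralizer of the Sylow 2-subgroup. -/
abbrev AT (T : Sylow 2 G) : Subgroup G := Subgroup.centralizer ((T : Subgroup G) : Set G)

variable {T : Sylow 2 G} [Finite G]

omit [Finite G] in
theorem commute_of_commute (h : Hyp T) {t a b : G} (ht : orderOf t = 2) (ha : Commute a t)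
    (hb : Commute b t) : Commute a b :=
  congrArg Subtype.val ((h.ab t ht).is_comm.comm
    ⟨a, Subgroup.mem_centralizer_singleton_iff.2 ha.eq⟩
    ⟨b, Subgroup.mem_centralizer_singleton_iff.2 hb.eq⟩)

omit [Finite G] in
theorem nontrivial_T (h : Hyp T) : Nontrivial (T : Subgroup G) := by
  by_contra hcon
  rw [not_nontrivial_iff_subsingleton] at hcon
  exact h.not_cyclic isCyclic_of_subsingleton

theorem exists_central_involution (h : Hyp T) :
    ∃ z ∈ (T : Subgroup G), orderOf z = 2 ∧ ∀ x ∈ (T : Subgroup G), Commute z x := by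
  have : Fact (Nat.Prime 2) := ⟨Nat.prime_two⟩
  have := nontrivial_T h
  have hc := T.isPGroup'.center_nontrivial
  obtain ⟨k, hk, hcard⟩ :=
    (T.isPGroup'.to_subgroup (Subgroup.center (T : Subgroup G))).nontrivial_iff_card.1 hc
  obtain ⟨⟨⟨z, hzT⟩, hzc⟩, hz⟩ := exists_prime_orderOf_dvd_card'
    (G := Subgroup.center (T : Subgroup G)) 2 (hcard ▸ dvd_pow_self 2 hk.ne')
  refine ⟨z, hzT, by rwa [Subgroup.orderOf_mk, Subgroup.orderOf_mk] at hz, fun x hx => ?_⟩
  exact (congrArg Subtype.val (Subgroup.mem_center_iff.1 hzc ⟨x, hx⟩)).symm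

theorem comm_T (h : Hyp T) {x y : G} (hx : x ∈ (T : Subgroup G)) (hy : y ∈ (T : Subgroup G)) :
    Commute x y := by
  obtain ⟨z, -, hz, hzc⟩ := exists_central_involution h
  exact commute_of_commute h hz (hzc x hx).symm (hzc y hy).symm

theorem T_le_AT (h : Hyp T) : (T : Subgroup G) ≤ AT T := fun x hx =>
  Subgroup.mem_centralizer_iff.2 fun _ hy => (comm_T h hy hx).eq

theorem centralizer_eq (h : Hyp T) {t : G} (ht : t ∈ (T : Subgroup G)) (ht2 : orderOf t = 2) :
    Subgroup.centralizer ({t} : Set G) = AT T := by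
  refine le_antisymm (fun c hc => Subgroup.mem_centralizer_iff.2 fun x hx => ?_) (fun c hc => ?_)
  · exact (commute_of_commute h ht2 (comm_T h hx ht) (Subgroup.mem_centralizer_singleton_iff.1 hc)).eq
  · exact Subgroup.mem_centralizer_singleton_iff.2 (Subgroup.mem_centralizer_iff.1 hc t ht).symm

theorem AT_comm (h : Hyp T) {a b : G} (ha : a ∈ AT T) (hb : b ∈ AT T) : Commute a b := by
  obtain ⟨z, hzT, hz, -⟩ := exists_central_involution h
  exact commute_of_commute h hz (Subgroup.mem_centralizer_iff.1 ha z hzT).symm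
    (Subgroup.mem_centralizer_iff.1 hb z hzT).symm

omit [Finite G] in
theorem AT_le_normT : AT T ≤ normT T := Subgroup.centralizer_le_normalizer _

theorem mem_T_of_isPGroup {x : G} (hx : IsPGroup 2 (Subgroup.zpowers x)) (hxN : x ∈ normT T) :
    x ∈ (T : Subgroup G) := by
  have : Fact (Nat.Prime 2) := ⟨Nat.prime_two⟩
  have h1 : x ∈ Subgroup.zpowers x ⊓ normT T := ⟨Subgroup.mem_zpowers x, hxN⟩
  have h2 : Subgroup.zpowers x ⊓ normT T = Subgroup.zpowers x ⊓ (T : Subgroup G) :=
    hx.inf_normalizer_sylow T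
  rw [h2] at h1
  exact h1.2

theorem involution_mem_T {s : G} (hs : orderOf s = 2) (hsH : s ∈ normT T) :
    s ∈ (T : Subgroup G) :=
  mem_T_of_isPGroup (IsPGroup.of_card (n := 1) (by rw [Nat.card_zpowers, hs, pow_one])) hsH

theorem mem_normT_of_conj (h : Hyp T) {g t : G} (ht : t ∈ (T : Subgroup G)) (ht2 : orderOf t = 2)
    (hs : g⁻¹ * t * g ∈ (T : Subgroup G)) : g ∈ normT T := by
  have hso : orderOf (g⁻¹ * t * g) = 2 := by simpa using (orderOf_conj_eq g⁻¹ t).trans ht2
  have key : ∀ x ∈ (T : Subgroup G), g⁻¹ * x * g ∈ (T : Subgroup G) := by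
    intro x hx
    refine mem_T_of_isPGroup ?_ (AT_le_normT ?_)
    · obtain ⟨k, hk⟩ := T.isPGroup' ⟨x, hx⟩
      rintro ⟨_, i, rfl⟩
      refine ⟨k, Subtype.ext ?_⟩
      have hk' : x ^ 2 ^ k = 1 := congrArg Subtype.val hk
      show ((g⁻¹ * x * g) ^ i) ^ 2 ^ k = 1
      rw [← zpow_natCast, ← zpow_mul, mul_comm, zpow_mul, zpow_natCast]
      have : (g⁻¹ * x * g) ^ 2 ^ k = 1 := by
        have e := conj_pow (a := g⁻¹) (b := x) (i := 2 ^ k)
        rw [inv_inv] at e
        rw [e, hk']
        simp
      rw [this, one_zpow]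
    · rw [← centralizer_eq h hs hso, Subgroup.mem_centralizer_singleton_iff]
      have hc := (comm_T h hx ht).eq
      calc g⁻¹ * x * g * (g⁻¹ * t * g) = g⁻¹ * (x * t) * g := by group
        _ = g⁻¹ * (t * x) * g := by rw [hc]
        _ = g⁻¹ * t * g * (g⁻¹ * x * g) := by group
  rw [Subgroup.mem_set_normalizer_iff'']
  intro x
  refine ⟨key x, fun hx => ?_⟩
  let f : ↥(T : Subgroup G) → ↥(T : Subgroup G) := fun y => ⟨g⁻¹ * y.1 * g, key y y.2⟩
  have hf : Function.Injective f := fun a b e => Subtype.ext (by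
    have e' : g⁻¹ * a.1 * g = g⁻¹ * b.1 * g := congrArg Subtype.val e
    simpa using e')
  obtain ⟨y, hy⟩ := (Finite.injective_iff_surjective.1 hf) ⟨g⁻¹ * x * g, hx⟩
  have hy' : g⁻¹ * y.1 * g = g⁻¹ * x * g := congrArg Subtype.val hy
  obtain rfl : y.1 = x := by simpa using hy'
  exact y.2

theorem isStronglyEmbedded (h : Hyp T) : IsStronglyEmbedded (normT T) := by
  obtain ⟨z, hzT, hz, -⟩ := exists_central_involution h
  rw [isStronglyEmbedded_iff]
  refine ⟨fun htop => h.not_normal (Subgroup.normalizer_eq_top_iff.1 htop),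
    even_card_of_involution_mem (Subgroup.le_normalizer hzT) hz, fun g hg t htH ht hs => hg ?_⟩
  exact mem_normT_of_conj h (involution_mem_T ht htH) ht
    (involution_mem_T (by simpa using (orderOf_conj_eq g⁻¹ t).trans ht) hs)

/-- The common centralizer of the involutions fixing a coset. -/
def Acent (T : Sylow 2 G) (x : G ⧸ normT T) : Subgroup G :=
  Subgroup.centralizer {t : G | orderOf t = 2 ∧ t • x = x}

variable {x y : G ⧸ normT T}

omit [Finite G] in
theorem mem_Acent_iff {r : G} :
    r ∈ Acent T x ↔ ∀ t : G, orderOf t = 2 → t • x = x → Commute r t :=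
  ⟨fun hr t ht hx => (Subgroup.mem_centralizer_iff.1 hr t ⟨ht, hx⟩).symm,
    fun hr => Subgroup.mem_centralizer_iff.2 fun t ht => (hr t ht.1 ht.2).eq.symm⟩

omit [Finite G] in
theorem conj_mem_Acent {r : G} (hr : r ∈ Acent T x) (g : G) :
    g * r * g⁻¹ ∈ Acent T (g • x) := by
  rw [mem_Acent_iff] at hr ⊢
  intro t ht hx
  have h1 : Commute r (g⁻¹ * t * g) := hr _ (by simpa using (orderOf_conj_eq g⁻¹ t).trans ht) (by
    rw [mul_smul, mul_smul, hx, inv_smul_smul])
  have h2 := h1.map (MulAut.conj g).toMonoidHom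
  simpa [mul_assoc] using h2

theorem Acent_base (h : Hyp T) : Acent T (base T) = AT T := by
  obtain ⟨z, hzT, hz, -⟩ := exists_central_involution h
  apply le_antisymm
  · intro r hr
    rw [← centralizer_eq h hzT hz, Subgroup.mem_centralizer_singleton_iff]
    exact (mem_Acent_iff.1 hr z hz (mem_normT_iff.1 (Subgroup.le_normalizer hzT))).eq
  · intro r hr
    rw [mem_Acent_iff]
    intro t ht hx
    exact (Subgroup.mem_centralizer_iff.1 hr t (involution_mem_T ht (mem_normT_iff.2 hx))).symm

theorem fixing_commute (h : Hyp T) {s t : G} (hs : orderOf s = 2) (hsx : s • x = x)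
    (ht : orderOf t = 2) (htx : t • x = x) : Commute s t := by
  obtain ⟨g, rfl⟩ := QuotientGroup.mk_surjective x
  have hsT := involution_mem_T (T := T) (by simpa using (orderOf_conj_eq g⁻¹ s).trans hs)
    (smul_coset_eq_iff.1 hsx)
  have htT := involution_mem_T (T := T) (by simpa using (orderOf_conj_eq g⁻¹ t).trans ht)
    (smul_coset_eq_iff.1 htx)
  have := (comm_T h hsT htT).map (MulAut.conj g).toMonoidHom
  simpa [mul_assoc] using this

theorem mem_Acent_of_commute (h : Hyp T) {r t : G} (ht : orderOf t = 2) (htx : t • x = x)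
    (hr : Commute r t) : r ∈ Acent T x :=
  mem_Acent_iff.2 fun s hs hsx => commute_of_commute h ht hr (fixing_commute h hs hsx ht htx)

theorem involution_mem_Acent (h : Hyp T) {t : G} (ht : orderOf t = 2) (htx : t • x = x) :
    t ∈ Acent T x :=
  mem_Acent_of_commute h ht htx (Commute.refl t)

theorem Acent_comm (h : Hyp T) {a b : G} (ha : a ∈ Acent T x) (hb : b ∈ Acent T x) :
    Commute a b := by
  obtain ⟨t, ht, htx⟩ := exists_involution_fixing (isStronglyEmbedded h) x
  exact commute_of_commute h ht (mem_Acent_iff.1 ha t ht htx) (mem_Acent_iff.1 hb t ht htx)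

theorem smul_eq_of_commute (h : Hyp T) {r t : G} (ht : orderOf t = 2) (htx : t • x = x)
    (hr : Commute r t) : r • x = x :=
  fixed_unique (isStronglyEmbedded h) ht
    (by rw [smul_smul, ← hr.eq, mul_smul, htx]) htx

theorem smul_eq_of_mem_Acent (h : Hyp T) {r : G} (hr : r ∈ Acent T x) : r • x = x := by
  obtain ⟨t, ht, htx⟩ := exists_involution_fixing (isStronglyEmbedded h) x
  exact smul_eq_of_commute h ht htx (mem_Acent_iff.1 hr t ht htx)

/-- An element fixing two cosets has odd order. -/
theorem odd_orderOf_fix (h : Hyp T) (hxy : x ≠ y) {d : G} (hx : d • x = x) (hy : d • y = y) :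
    Odd (orderOf d) := by
  by_contra ho
  have h2 := orderOf_pow_half (Nat.not_odd_iff_even.1 ho)
  have hmem : ∀ w : G ⧸ normT T, d • w = w → (d ^ (orderOf d / 2)) • w = w := fun w hw =>
    MulAction.mem_stabilizer_iff.1 (pow_mem (MulAction.mem_stabilizer_iff.2 hw) _)
  exact hxy (fixed_unique (isStronglyEmbedded h) h2 (hmem x hx) (hmem y hy))

theorem eq_one_of_odd_of_sq {r : G} (ho : Odd (orderOf r)) (h2 : r * r = 1) : r = 1 := by
  rcases (Nat.dvd_prime Nat.prime_two).1
    (orderOf_dvd_of_pow_eq_one (x := r) (n := 2) (by rw [pow_two]; exact h2)) with h1 | h1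
  · exact orderOf_eq_one_iff.1 h1
  · exact absurd (h1 ▸ ho) (by decide)

/-- No nontrivial element of odd order of a common centralizer is inverted by an involution. -/
theorem eq_one_of_inverted (h : Hyp T) {r u : G} (hr : r ∈ Acent T x) (ho : Odd (orderOf r))
    (hu : orderOf u = 2) (hinv : u * r * u = r⁻¹) : r = 1 := by
  classical
  let Z := {w : G ⧸ normT T // r ∈ Acent T w}
  have := Fintype.ofFinite Z
  obtain ⟨t, ht, htx⟩ := exists_involution_fixing (isStronglyEmbedded h) x
  have htr : Commute r t := mem_Acent_iff.1 hr t ht htx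
  have htZ : ∀ w : Z, r ∈ Acent T (t • w.1) := fun w => by
    have h1 := conj_mem_Acent w.2 t
    rwa [← htr.eq, mul_inv_cancel_right] at h1
  let ft : Equiv.Perm Z :=
    { toFun := fun w => ⟨t • w.1, htZ w⟩
      invFun := fun w => ⟨t • w.1, htZ w⟩
      left_inv := fun w => Subtype.ext (smul_self_of_involution ht _)
      right_inv := fun w => Subtype.ext (smul_self_of_involution ht _) }
  have huZ : ∀ w : Z, r ∈ Acent T (u • w.1) := fun w => by
    have h1 := conj_mem_Acent (inv_mem w.2) u
    have h2 : u * r⁻¹ * u⁻¹ = r := by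
      rw [← hinv]
      calc u * (u * r * u) * u⁻¹ = (u * u) * r := by group
        _ = r := by rw [mul_self_eq_one hu, one_mul]
    rwa [h2] at h1
  let fu : Equiv.Perm Z :=
    { toFun := fun w => ⟨u • w.1, huZ w⟩
      invFun := fun w => ⟨u • w.1, huZ w⟩
      left_inv := fun w => Subtype.ext (smul_self_of_involution hu _)
      right_inv := fun w => Subtype.ext (smul_self_of_involution hu _) }
  have : Fact (Nat.Prime 2) := ⟨Nat.prime_two⟩
  have hsqt : ft ^ 2 ^ 1 = 1 := Equiv.ext fun w => by
    rw [pow_one, pow_two]; exact ft.left_inv w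
  have hsqu : fu ^ 2 ^ 1 = 1 := Equiv.ext fun w => by
    rw [pow_one, pow_two]; exact fu.left_inv w
  have hodd : ¬ 2 ∣ Fintype.card Z := by
    intro hd
    obtain ⟨⟨w, hw⟩, hwfix, hwne⟩ :=
      Equiv.Perm.exists_fixed_point_of_prime' hd hsqt (a := ⟨x, hr⟩) (Subtype.ext htx)
    exact hwne (Subtype.ext (fixed_unique (isStronglyEmbedded h) ht
      (congrArg Subtype.val hwfix) htx))
  obtain ⟨⟨w, hw⟩, hwfix⟩ := Equiv.Perm.exists_fixed_point_of_prime hodd hsqu
  have hc : Commute r u := mem_Acent_iff.1 hw u hu (congrArg Subtype.val hwfix)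
  refine eq_one_of_odd_of_sq ho (mul_eq_one_iff_eq_inv.2 ?_)
  rw [← hinv, ← hc.eq, mul_assoc, mul_self_eq_one hu, mul_one]

/-- Two involutions with the same image of `x` differing by an element of the common centralizer
coincide. -/
theorem swap_inj (h : Hyp T) (hxy : x ≠ y) {u i i' : G} (hu : orderOf u = 2) (hux : u • x = y)
    (hi : orderOf i = 2) (hix : i • x = y) (hi' : orderOf i' = 2) (hi'x : i' • x = y)
    (hk : u * i * i' * u ∈ Acent T x) : i = i' := by
  have huy : u • y = x := by rw [← hux, smul_self_of_involution hu]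
  have hiy : i • y = x := by rw [← hix, smul_self_of_involution hi]
  have hi'y : i' • y = x := by rw [← hi'x, smul_self_of_involution hi']
  have hu2 := mul_self_eq_one hu
  have hky : (u * i * i' * u) • y = y := by simp only [mul_smul, huy, hi'x, hiy, hux]
  have ho := odd_orderOf_fix h hxy (smul_eq_of_mem_Acent h hk) hky
  have hjo : orderOf (u * i * u) = 2 := by
    have h1 := (orderOf_conj_eq u i).trans hi
    rwa [inv_eq_self_of_involution hu] at h1
  have h1 := eq_one_of_inverted h hk ho hjo (by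
    rw [mul_inv_rev, mul_inv_rev, mul_inv_rev, inv_eq_self_of_involution hu,
      inv_eq_self_of_involution hi, inv_eq_self_of_involution hi']
    calc u * i * u * (u * i * i' * u) * (u * i * u)
        = u * (i * (u * u) * i) * i' * (u * u) * i * u := by group
      _ = u * (i' * (i * u)) := by rw [hu2]; simp only [mul_one, mul_self_eq_one hi]; group)
  have h2 : i * i' = 1 := by
    calc i * i' = u * (u * i * i' * u) * u := by
          simp only [mul_assoc, hu2, mul_one]; rw [← mul_assoc u u, hu2, one_mul]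
      _ = 1 := by rw [h1, mul_one, hu2]
  rw [mul_eq_one_iff_eq_inv.1 h2, inv_eq_self_of_involution hi']

theorem two_le_card_inv (h : Hyp T) :
    2 ≤ Nat.card {t : G // orderOf t = 2 ∧ t ∈ normT T} := by
  by_contra hcon
  apply h.not_cyclic
  letI : CommGroup (T : Subgroup G) :=
    { (T : Subgroup G).toGroup with mul_comm := fun a b => Subtype.ext (comm_T h a.2 b.2).eq }
  refine Cfsg.Tech46.Sympl.isCyclic_of_unique_involution T.isPGroup' fun a b ha hb => ?_
  have hsub : Subsingleton {t : G // orderOf t = 2 ∧ t ∈ normT T} :=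
    Finite.card_le_one_iff_subsingleton.1 (by omega)
  have e := @Subsingleton.elim _ hsub
    ⟨(a : G), by rw [Subgroup.orderOf_coe]; exact ha, Subgroup.le_normalizer a.2⟩
    ⟨(b : G), by rw [Subgroup.orderOf_coe]; exact hb, Subgroup.le_normalizer b.2⟩
  exact Subtype.ext (congrArg
    (fun v : {t : G // orderOf t = 2 ∧ t ∈ normT T} => (v : G)) e)

end CfsgLib.AbelInv
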