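import Cfsg.Agent.Lib.AbelInv.Quot

/-!
Groups with trivial centre, abelian centralizers of involutions and a Sylow 2-subgroup neither
cyclic nor normal: the centralizers of involutions are elementary abelian 2-groups.
-/

set_option autoImplicit false

namespace CfsgLib.AbelInv

open Cfsg (IsStronglyEmbedded)
open CfsgLib.Involutions CfsgLib.StrongEmbedding
open CfsgLib.StrongEmbedding.ElementaryCentralizers (normT base mem_normT_iff)

universe u

/-- The statement of the induction. -/
def Good (G : Type u) [Group G] [Finite G] : Prop :=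
  ∀ T : Sylow 2 G, Hyp T → Subgroup.center G = ⊥ → ∀ a ∈ AT T, a ^ 2 = 1

variable {G : Type u} [Group G] [Finite G] {T : Sylow 2 G}

theorem not_conj_meet (h : Hyp T) (hZ : Subgroup.center G = ⊥)
    (IH : ∀ (H : Type u) [Group H] [Finite H], Nat.card H < Nat.card G → Good H)
    {r : G} {y : G ⧸ normT T} (hy : y ≠ base T) (hr : r ∈ AT T) (hry : r ∈ Acent T y)
    (hr1 : r ≠ 1) : False := by
  classical
  have : Fact (Nat.Prime 2) := ⟨Nat.prime_two⟩
  set H := Subgroup.centralizer ({r} : Set G) with hHdef
  have hmemH : ∀ g : G, g ∈ H ↔ Commute g r := fun g => Subgroup.mem_centralizer_singleton_iff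
  have hHtop : H ≠ ⊤ := by
    intro e
    apply hr1
    rw [← Subgroup.mem_bot, ← hZ, Subgroup.mem_center_iff]
    intro g
    exact ((hmemH g).1 (e ▸ Subgroup.mem_top g)).eq
  have hAH : AT T ≤ H := fun a ha => (hmemH a).2 (AT_comm h ha hr)
  have hTH : (T : Subgroup G) ≤ H := (T_le_AT h).trans hAH
  set TH : Sylow 2 H := T.subtype hTH with hTHdef
  have hmemTH : ∀ v : H, v ∈ (TH : Subgroup H) ↔ (v : G) ∈ (T : Subgroup G) := fun v => Iff.rfl
  have hHyp : Hyp TH := by
    refine ⟨?_, ?_, ?_⟩
    · intro hc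
      apply h.not_cyclic
      have e : ↥((T : Subgroup G).subgroupOf H) ≃* ↥(T : Subgroup G) :=
        Subgroup.subgroupOfEquivOfLe hTH
      have hc' : IsCyclic ↥((T : Subgroup G).subgroupOf H) := hc
      exact e.isCyclic.1 hc'
    · intro hn
      obtain ⟨t, ht, hty⟩ := exists_involution_fixing (isStronglyEmbedded h) y
      have htH : t ∈ H := (hmemH t).2 (mem_Acent_iff.1 hry t ht hty).symm
      have key : ∀ x ∈ (T : Subgroup G), t * x * t⁻¹ ∈ (T : Subgroup G) := fun x hx =>
        (hmemTH _).1 (hn.conj_mem ⟨x, hTH hx⟩ hx ⟨t, htH⟩)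
      have htN : t ∈ normT T := by
        rw [Subgroup.mem_set_normalizer_iff]
        intro x
        refine ⟨key x, fun hx => ?_⟩
        have h2 := key _ hx
        rwa [inv_eq_self_of_involution ht, show t * (t * x * t) * t = (t * t) * x * (t * t) by group,
          mul_self_eq_one ht, one_mul, mul_one] at h2
      exact hy (fixed_unique (isStronglyEmbedded h) ht hty (mem_normT_iff.1 htN))
    · intro t ht
      refine ⟨⟨fun a b => Subtype.ext (Subtype.ext ?_)⟩⟩
      have h1 : ∀ c : Subgroup.centralizer ({t} : Set H), Commute ((c : H) : G) (t : G) := fun c =>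
        congrArg Subtype.val (Subgroup.mem_centralizer_singleton_iff.1 c.2)
      exact (commute_of_commute h (by rwa [Subgroup.orderOf_coe]) (h1 a) (h1 b)).eq
  -- involutions of the subgroup
  have hconjH : ∀ s t : G, s ∈ H → t ∈ H → orderOf s = 2 → orderOf t = 2 →
      ∃ c ∈ H, c * s * c⁻¹ = t := by
    intro s t hs ht hs2 ht2
    obtain ⟨c, hc⟩ := isConj_iff.1 (isConj_involutions (isStronglyEmbedded hHyp)
      (a := ⟨s, hs⟩) (b := ⟨t, ht⟩) (by rwa [Subgroup.orderOf_mk]) (by rwa [Subgroup.orderOf_mk]))
    exact ⟨c, c.2, congrArg Subtype.val hc⟩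
  obtain ⟨z, hzT, hz, -⟩ := exists_central_involution h
  have hcent : ∀ t ∈ H, orderOf t = 2 → Subgroup.centralizer ({t} : Set G) ≤ H := by
    intro t ht ht2 g hg
    obtain ⟨c, hc, hct⟩ := hconjH t z ht (hTH hzT) ht2 hz
    have h0 : Commute g t := Subgroup.mem_centralizer_singleton_iff.1 hg
    have h1 : c * g * c⁻¹ ∈ AT T := by
      rw [← centralizer_eq h hzT hz, Subgroup.mem_centralizer_singleton_iff, ← hct]
      exact (h0.map (MulAut.conj c).toMonoidHom).eq
    have h2 := mul_mem (mul_mem (inv_mem hc) (hAH h1)) hc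
    rwa [show c⁻¹ * (c * g * c⁻¹) * c = g by group] at h2
  have hHse : IsStronglyEmbedded H := by
    rw [isStronglyEmbedded_iff]
    refine ⟨hHtop, even_card_of_involution_mem (hTH hzT) hz, fun g hg t htH ht hs => hg ?_⟩
    obtain ⟨c, hc, hct⟩ := hconjH t (g⁻¹ * t * g) htH hs ht
      (by simpa using (orderOf_conj_eq g⁻¹ t).trans ht)
    have h1 : g * c ∈ H := hcent t htH ht (Subgroup.mem_centralizer_singleton_iff.2 (by
      calc g * c * t = g * (c * t * c⁻¹) * c := by group
        _ = t * (g * c) := by rw [hct]; group))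
    simpa using mul_mem h1 (inv_mem hc)
  -- the quotient by the centre
  set π := QuotientGroup.mk' (Subgroup.center H) with hπ
  have hE : ElementaryCentralizers.Hyp (imageT TH) :=
    elementary_of_sq (hyp_quotient hHyp)
      (IH _ (lt_of_le_of_lt (Nat.card_le_card_of_surjective π (QuotientGroup.mk'_surjective _))
        (lt_of_le_of_ne (Subgroup.card_le_card_group H) fun e => hHtop (Subgroup.eq_top_of_card_eq H e)))
        (imageT TH) (hyp_quotient hHyp) (center_quotient hHyp))
  obtain ⟨u, hu, huH⟩ := exists_involution_notMem hHse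
  set x0 : G ⧸ H := ((1 : G) : G ⧸ H) with hx0
  have hux : u • x0 = ((u : G) : G ⧸ H) := by
    show ((u * 1 : G) : G ⧸ H) = _
    rw [mul_one]
  have hxy : x0 ≠ ((u : G) : G ⧸ H) := fun e => huH (by
    rw [hx0, QuotientGroup.eq] at e; simpa using e)
  set D : Subgroup G := H ⊓ H.map (MulAut.conj u).toMonoidHom with hD
  let D' : Subgroup (H ⧸ Subgroup.center H) := (D.subgroupOf H).map π
  have hD'odd : Odd (Nat.card D') := by
    have h1 : Odd (Nat.card D) := hHse.2.2 u huH
    refine h1.of_dvd_nat ?_
    rw [← Nat.card_congr (Subgroup.subgroupOfEquivOfLe (inf_le_left : D ≤ H)).toEquiv]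
    exact Subgroup.card_map_dvd _ _
  have huy : u • ((u : G) : G ⧸ H) = x0 := by rw [← hux, smul_self_of_involution hu]
  let P := {i : G // orderOf i = 2 ∧ i • x0 = ((u : G) : G ⧸ H)}
  have hD_mem : ∀ i : P, i.1 * u ∈ D := fun i => by
    rw [hD, mem_inf_map_conj_iff]
    have hiy : i.1 • ((u : G) : G ⧸ H) = x0 :=
      (congrArg (i.1 • ·) i.2.2).symm.trans (smul_self_of_involution i.2.1 x0)
    exact ⟨by rw [mul_smul, ← hx0, hux, hiy], by rw [mul_smul, huy, i.2.2]⟩
  let f : P → D' := fun i => ⟨π ⟨i.1 * u, (hD_mem i).1⟩,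
    Subgroup.mem_map_of_mem π (Subgroup.mem_subgroupOf.2 (hD_mem i))⟩
  have hf : Function.Injective f := by
    rintro ⟨i, hi, hix⟩ ⟨i', hi', hi'x⟩ e
    have e' : π ⟨i * u, _⟩ = π ⟨i' * u, _⟩ := congrArg Subtype.val e
    rw [hπ, QuotientGroup.mk'_apply, QuotientGroup.mk'_apply, QuotientGroup.eq] at e'
    refine Subtype.ext ?_
    show i = i'
    set k := u * i * i' * u with hk
    have hkeq : (i * u)⁻¹ * (i' * u) = k := by
      rw [hk, mul_inv_rev, inv_eq_self_of_involution hu, inv_eq_self_of_involution hi]; group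
    have hkA : k ∈ AT T := by
      rw [← centralizer_eq h hzT hz, Subgroup.mem_centralizer_singleton_iff, ← hkeq]
      exact congrArg Subtype.val (Subgroup.mem_center_iff.1 e' ⟨z, hTH hzT⟩).symm
    have hko : Odd (orderOf k) := by
      have := odd_center hHyp e'
      rw [← Subgroup.orderOf_coe] at this
      rwa [← hkeq]
    have hjo : orderOf (u * i * u) = 2 := by
      have h1 := (orderOf_conj_eq u i).trans hi
      rwa [inv_eq_self_of_involution hu] at h1
    have h1 := eq_one_of_inverted h (x := base T) (by rwa [Acent_base h]) hko hjo (by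
      rw [hk, mul_inv_rev, mul_inv_rev, mul_inv_rev, inv_eq_self_of_involution hu,
        inv_eq_self_of_involution hi, inv_eq_self_of_involution hi']
      calc u * i * u * (u * i * i' * u) * (u * i * u)
          = u * (i * (u * u) * i) * i' * (u * u) * i * u := by group
        _ = u * (i' * (i * u)) := by
          rw [mul_self_eq_one hu]; simp only [mul_one, mul_self_eq_one hi]; group)
    have h2 : i * i' = 1 := by
      calc i * i' = u * k * u := by
            rw [hk]; simp only [mul_assoc, mul_self_eq_one hu, mul_one]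
            rw [← mul_assoc u u, mul_self_eq_one hu, one_mul]
        _ = 1 := by rw [h1, mul_one, mul_self_eq_one hu]
    rw [mul_eq_one_iff_eq_inv.1 h2, inv_eq_self_of_involution hi']
  refine Elementary.no_large_odd hE D' hD'odd ?_
  have h1 := Nat.card_le_card_of_injective f hf
  have h2 : Nat.card {t : H ⧸ Subgroup.center H // orderOf t = 2} ≤
      Nat.card {t : G // orderOf t = 2 ∧ t ∈ H} := by
    let g : {t : H ⧸ Subgroup.center H // orderOf t = 2} → {t : G // orderOf t = 2 ∧ t ∈ H} := fun s =>
      ⟨((lift_involution hHyp s.2).choose : H),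
        by rw [Subgroup.orderOf_coe]; exact (lift_involution hHyp s.2).choose_spec.1,
        SetLike.coe_mem _⟩
    refine Nat.card_le_card_of_injective g fun a b e => Subtype.ext ?_
    exact ((lift_involution hHyp a.2).choose_spec.2.symm.trans
      (congrArg π (Subtype.ext (congrArg (fun v : {t : G // orderOf t = 2 ∧ t ∈ H} => v.1) e)))).trans
      (lift_involution hHyp b.2).choose_spec.2
  exact h2.trans ((card_swapping hHse hxy).symm.le.trans h1)

theorem disjoint_Acent (h : Hyp T) (hZ : Subgroup.center G = ⊥)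
    (IH : ∀ (H : Type u) [Group H] [Finite H], Nat.card H < Nat.card G → Good H) : Disjoint' T := by
  intro r x y hxy hrx hry
  by_contra hr1
  obtain ⟨g, rfl⟩ := QuotientGroup.mk_surjective x
  have he : g⁻¹ • (g : G ⧸ normT T) = base T := by
    show ((g⁻¹ * g : G) : G ⧸ normT T) = _
    rw [inv_mul_cancel]
  have h1 := conj_mem_Acent hrx g⁻¹
  rw [he, Acent_base h] at h1
  refine not_conj_meet h hZ IH (r := g⁻¹ * r * g⁻¹⁻¹) (y := g⁻¹ • y) ?_ h1
    (conj_mem_Acent hry g⁻¹) (fun e => hr1 (conj_eq_one_iff.1 e))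
  intro e
  exact hxy (smul_left_cancel g⁻¹ (he.trans e.symm))

theorem good (G : Type u) [Group G] [Finite G] : Good G := by
  suffices key : ∀ (n : ℕ) (K : Type u) [Group K] [Finite K], Nat.card K = n → Good K from
    key _ G rfl
  intro n
  induction n using Nat.strong_induction_on with
  | _ n ih =>
    intro K _ _ hn T h hZ a ha
    exact sq_eq_one h (disjoint_Acent h hZ fun H _ _ hlt => ih _ (hn ▸ hlt) H rfl) ha

/-- The quotient by the centre satisfies the hypotheses of the recognition theorem. -/
theorem elementary_quotient (h : Hyp T) : ElementaryCentralizers.Hyp (imageT T) :=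
  elementary_of_sq (hyp_quotient h) (good _ _ (hyp_quotient h) (center_quotient h))

end CfsgLib.AbelInv
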