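import Cfsg.Agent.Lib.AbelInv.Basic

/-!
Two-point stabilisers in groups with abelian centralizers of involutions.
-/

set_option autoImplicit false

namespace CfsgLib.AbelInv

open Cfsg (IsStronglyEmbedded)
open CfsgLib.Involutions CfsgLib.StrongEmbedding
open CfsgLib.StrongEmbedding.ElementaryCentralizers (normT base mem_normT_iff)

variable {G : Type*} [Group G] [Finite G] {T : Sylow 2 G} {x y : G ⧸ normT T}

/-- The number of involutions fixing a coset. -/
noncomputable abbrev numInv (T : Sylow 2 G) : ℕ :=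
  Nat.card {t : G // orderOf t = 2 ∧ t ∈ normT T}

theorem exists_swap (h : Hyp T) (hxy : x ≠ y) : ∃ r : G, orderOf r = 2 ∧ r • x = y := by
  have h1 : 0 < Nat.card {i : G // orderOf i = 2 ∧ i • x = y} := by
    rw [card_swapping (isStronglyEmbedded h) hxy]
    have := two_le_card_inv h
    omega
  obtain ⟨⟨r, hr⟩⟩ := (Nat.card_pos_iff.1 h1).1
  exact ⟨r, hr⟩

theorem swap_mul_smul {u i : G} (hu : orderOf u = 2) (hux : u • x = y) (hi : orderOf i = 2)
    (hix : i • x = y) : (i * u) • x = x ∧ (i * u) • y = y := by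
  have huy : u • y = x := by rw [← hux, smul_self_of_involution hu]
  have hiy : i • y = x := by rw [← hix, smul_self_of_involution hi]
  exact ⟨by rw [mul_smul, hux, hiy], by rw [mul_smul, huy, hix]⟩

/-- An element fixing a coset is, up to the common centralizer, a product of two swapping
involutions. -/
theorem decomp (h : Hyp T) (hxy : x ≠ y) {u n : G} (hu : orderOf u = 2) (hux : u • x = y)
    (hn : n • x = x) :
    ∃ i : G, orderOf i = 2 ∧ i • x = y ∧ (i * u)⁻¹ * n ∈ Acent T x := by
  obtain ⟨t, ht, htx⟩ := exists_involution_fixing (isStronglyEmbedded h) x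
  let f : {i : G // orderOf i = 2 ∧ i • x = y} → {s : G // orderOf s = 2 ∧ s • x = x} := fun i =>
    ⟨i.1 * u * t * (i.1 * u)⁻¹, by rw [orderOf_conj_eq]; exact ht, by
      have h1 := conj_smul_fixed (g := i.1 * u) htx
      rwa [(swap_mul_smul hu hux i.2.1 i.2.2).1] at h1⟩
  have hf : Function.Injective f := by
    rintro ⟨i, hi, hix⟩ ⟨i', hi', hi'x⟩ e
    have e' : i * u * t * (i * u)⁻¹ = i' * u * t * (i' * u)⁻¹ := congrArg Subtype.val e
    refine Subtype.ext (swap_inj h hxy hu hux hi hix hi' hi'x (mem_Acent_of_commute h ht htx ?_))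
    have e1 : u * i * i' * u = (i * u)⁻¹ * (i' * u) := by
      rw [mul_inv_rev, inv_eq_self_of_involution hu, inv_eq_self_of_involution hi]; group
    rw [e1]
    show (i * u)⁻¹ * (i' * u) * t = t * ((i * u)⁻¹ * (i' * u))
    calc (i * u)⁻¹ * (i' * u) * t = (i * u)⁻¹ * (i' * u * t * (i' * u)⁻¹) * (i' * u) := by group
      _ = t * ((i * u)⁻¹ * (i' * u)) := by rw [← e']; group
  have hb : Function.Bijective f := hf.bijective_of_nat_card_le
    (by rw [card_swapping (isStronglyEmbedded h) hxy, card_fixing_eq])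
  obtain ⟨⟨i, hi, hix⟩, he⟩ := hb.2 ⟨n * t * n⁻¹, by rw [orderOf_conj_eq]; exact ht, by
    have h1 := conj_smul_fixed (g := n) htx
    rwa [hn] at h1⟩
  have e : i * u * t * (i * u)⁻¹ = n * t * n⁻¹ := congrArg Subtype.val he
  refine ⟨i, hi, hix, mem_Acent_of_commute h ht htx ?_⟩
  show (i * u)⁻¹ * n * t = t * ((i * u)⁻¹ * n)
  calc (i * u)⁻¹ * n * t = (i * u)⁻¹ * (n * t * n⁻¹) * n := by group
    _ = t * ((i * u)⁻¹ * n) := by rw [← e]; group

theorem exists_ne_base (h : Hyp T) : ∃ y : G ⧸ normT T, y ≠ base T := by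
  obtain ⟨u, hu, huH⟩ := exists_involution_notMem (isStronglyEmbedded h)
  exact ⟨u • base T, fun e => huH (mem_normT_iff.2 e)⟩

/-- An element commuting with all involutions is central. -/
theorem mem_center_of_commute_involutions (h : Hyp T) {r : G}
    (hr : ∀ t : G, orderOf t = 2 → Commute r t) : r ∈ Subgroup.center G := by
  have hA : r ∈ Acent T (base T) := mem_Acent_iff.2 fun t ht _ => hr t ht
  have hN : ∀ n : G, n • base T = base T → Commute r n := by
    intro n hn
    obtain ⟨y, hy⟩ := exists_ne_base h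
    obtain ⟨u, hu, hux⟩ := exists_swap h (Ne.symm hy)
    obtain ⟨i, hi, -, ha⟩ := decomp h (Ne.symm hy) hu hux hn
    have h1 := ((hr i hi).mul_right (hr u hu)).mul_right (Acent_comm h hA ha)
    rwa [mul_inv_cancel_left] at h1
  rw [Subgroup.mem_center_iff]
  intro g
  by_cases hg : g • base T = base T
  · exact (hN g hg).eq.symm
  · obtain ⟨i, hi, hix⟩ := exists_swap h (Ne.symm hg)
    have h2 : (i * g) • base T = base T := by
      conv_lhs => rw [mul_smul, ← hix, smul_self_of_involution hi]
    have h1 := (hr i hi).mul_right (hN _ h2)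
    rw [← mul_assoc, mul_self_eq_one hi, one_mul] at h1
    exact h1.eq.symm

/-- Distinct common centralizers meet trivially. -/
def Disjoint' (T : Sylow 2 G) : Prop :=
  ∀ r : G, ∀ x y : G ⧸ normT T, x ≠ y → r ∈ Acent T x → r ∈ Acent T y → r = 1

theorem fix_eq_one (h : Hyp T) (hB : Disjoint' T) {r : G} (hr : r ∈ Acent T x) (hxy : x ≠ y)
    (hry : r • y = y) : r = 1 := by
  obtain ⟨u, hu, hux⟩ := exists_swap h hxy
  have huy : u • y = x := by rw [← hux, smul_self_of_involution hu]
  set r' := u * r * u⁻¹ with hr'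
  have hr'A : r' ∈ Acent T y := hux ▸ conj_mem_Acent hr u
  have hr'x : r' • x = x := by
    rw [hr', inv_eq_self_of_involution hu, mul_smul, mul_smul, hux, hry, huy]
  have hcom : Commute r r' := by
    have h1 : r * r' * r⁻¹ * r'⁻¹ = 1 := by
      refine hB _ x y hxy ?_ ?_
      · have h2 := conj_mem_Acent (inv_mem hr) r'
        rw [hr'x] at h2
        have h3 := mul_mem hr h2
        rwa [show r * r' * r⁻¹ * r'⁻¹ = r * (r' * r⁻¹ * r'⁻¹) by group]
      · have h2 := conj_mem_Acent hr'A r
        rw [hry] at h2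
        exact mul_mem h2 (inv_mem hr'A)
    show r * r' = r' * r
    calc r * r' = (r * r' * r⁻¹ * r'⁻¹) * (r' * r) := by group
      _ = r' * r := by rw [h1, one_mul]
  obtain ⟨c, hc⟩ := exists_fixed (isStronglyEmbedded h) hu
  set w := r * r' with hw
  have hwu : Commute w u := by
    show w * u = u * w
    have h1 : u * w * u⁻¹ = w := by
      calc u * w * u⁻¹ = r' * ((u * u) * r * (u * u)⁻¹) := by rw [hw, hr']; group
        _ = w := by rw [mul_self_eq_one hu, hw, hcom.eq]; simp
    exact (mul_inv_eq_iff_eq_mul.1 h1).symm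
  have hwc : w ∈ Acent T c := mem_Acent_of_commute h hu hc hwu
  have hwr : Commute r w := (Commute.refl r).mul_right hcom
  by_cases hrc : r • c = c
  · have hu' : orderOf (r * u * r⁻¹) = 2 := by rw [orderOf_conj_eq]; exact hu
    have hu'c : (r * u * r⁻¹) • c = c := by
      have h1 := conj_smul_fixed (g := r) hc
      rwa [hrc] at h1
    have hu'x : (r * u * r⁻¹) • x = y := by
      have h1 : r⁻¹ • x = x := by
        rw [inv_smul_eq_iff]; exact (smul_eq_of_mem_Acent h hr).symm
      rw [mul_smul, mul_smul, h1, hux, hry]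
    have hp := swap_mul_smul hu hux hu' hu'x
    have hodd := odd_orderOf_fix h hxy hp.1 hp.2
    have hcomm := fixing_commute h hu' hu'c hu hc
    have h2 : (r * u * r⁻¹ * u) * (r * u * r⁻¹ * u) = 1 := by
      calc (r * u * r⁻¹ * u) * (r * u * r⁻¹ * u)
          = (r * u * r⁻¹) * (u * (r * u * r⁻¹)) * u := by group
        _ = ((r * u * r⁻¹) * (r * u * r⁻¹)) * (u * u) := by rw [← hcomm.eq]; group
        _ = 1 := by rw [mul_self_eq_one hu', mul_self_eq_one hu, one_mul]
    have h3 := eq_one_of_odd_of_sq hodd h2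
    have h4 : r * u * r⁻¹ = u := by
      rw [mul_eq_one_iff_eq_inv.1 h3, inv_eq_self_of_involution hu]
    have h5 : r' = r := by
      rw [hr', mul_inv_eq_iff_eq_mul]
      exact (mul_inv_eq_iff_eq_mul.1 h4).symm
    exact hB r x y hxy hr (h5 ▸ hr'A)
  · have h1 : w = 1 := by
      refine hB w c (r • c) (Ne.symm hrc) hwc ?_
      have h2 := conj_mem_Acent hwc r
      rwa [hwr.eq, mul_inv_cancel_right] at h2
    have h5 : r = r'⁻¹ := mul_eq_one_iff_eq_inv.1 h1
    exact hB r x y hxy hr (h5 ▸ inv_mem hr'A)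

theorem inverts (h : Hyp T) (hB : Disjoint' T) (hxy : x ≠ y) {u d : G} (hu : orderOf u = 2)
    (hux : u • x = y) (hdx : d • x = x) (hdy : d • y = y) : u * d * u⁻¹ = d⁻¹ := by
  obtain ⟨i, hi, hix, ha⟩ := decomp h hxy hu hux hdx
  have h1 : (i * u)⁻¹ * d = 1 := by
    refine fix_eq_one h hB ha hxy ?_
    rw [mul_smul, hdy, inv_smul_eq_iff, (swap_mul_smul hu hux hi hix).2]
  obtain rfl : i * u = d := inv_mul_eq_one.1 h1
  rw [mul_inv_rev, inv_eq_self_of_involution hu, inv_eq_self_of_involution hi, mul_assoc, mul_assoc,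
    mul_self_eq_one hu, mul_one]

theorem commute_pair (h : Hyp T) (hB : Disjoint' T) (hxy : x ≠ y) {d e : G} (hdx : d • x = x)
    (hdy : d • y = y) (hex : e • x = x) (hey : e • y = y) : Commute d e := by
  obtain ⟨r, hr, hry⟩ := exists_swap h hxy
  have h1 := inverts h hB hxy hr hry (d := d * e) (by rw [mul_smul, hex, hdx])
    (by rw [mul_smul, hey, hdy])
  have h2 : r * (d * e) * r⁻¹ = d⁻¹ * e⁻¹ := by
    rw [← inverts h hB hxy hr hry hdx hdy, ← inverts h hB hxy hr hry hex hey]; group
  rw [h2, ← mul_inv_rev] at h1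
  exact (inv_injective h1).symm

theorem card_pair (h : Hyp T) (hB : Disjoint' T) (hxy : x ≠ y) :
    Nat.card {d : G // d • x = x ∧ d • y = y} = numInv T := by
  obtain ⟨u, hu, hux⟩ := exists_swap h hxy
  refine Eq.trans (Nat.card_congr (Equiv.ofBijective
    (fun i : {i : G // orderOf i = 2 ∧ i • x = y} =>
      (⟨i.1 * u, swap_mul_smul hu hux i.2.1 i.2.2⟩ : {d : G // d • x = x ∧ d • y = y}))
    ⟨?_, ?_⟩)).symm (card_swapping (isStronglyEmbedded h) hxy)
  · intro a b e
    exact Subtype.ext (mul_right_cancel (congrArg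
      (fun v : {d : G // d • x = x ∧ d • y = y} => (v : G)) e))
  · rintro ⟨d, hdx, hdy⟩
    obtain ⟨i, hi, hix, ha⟩ := decomp h hxy hu hux hdx
    have h1 : (i * u)⁻¹ * d = 1 := by
      refine fix_eq_one h hB ha hxy ?_
      rw [mul_smul, hdy, inv_smul_eq_iff, (swap_mul_smul hu hux hi hix).2]
    exact ⟨⟨i, hi, hix⟩, Subtype.ext (inv_mul_eq_one.1 h1)⟩

/-- A nontrivial element fixing two cosets commutes with no involution. -/
theorem not_commute_involution (h : Hyp T) (hB : Disjoint' T) (hxy : x ≠ y) {d t : G}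
    (hdx : d • x = x) (hdy : d • y = y) (hd : d ≠ 1) (ht : orderOf t = 2) : ¬ Commute d t := by
  intro hc
  obtain ⟨z, hz⟩ := exists_fixed (isStronglyEmbedded h) ht
  have hdz := mem_Acent_of_commute h ht hz hc
  by_cases e : z = x
  · exact hd (fix_eq_one h hB hdz (e ▸ hxy) hdy)
  · exact hd (fix_eq_one h hB hdz e hdx)

theorem odd_of_commute_pair (h : Hyp T) (hB : Disjoint' T) (hxy : x ≠ y) {d c : G}
    (hdx : d • x = x) (hdy : d • y = y) (hd : d ≠ 1) (hc : Commute c d) : Odd (orderOf c) := by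
  by_contra ho
  exact not_commute_involution h hB hxy hdx hdy hd
    (orderOf_pow_half (Nat.not_odd_iff_even.1 ho)) (hc.symm.pow_right _)

/-- An element inverted by an involution: its centralizer is inverted as well. -/
theorem inverts_centralizer (h : Hyp T) (hB : Disjoint' T) (hxy : x ≠ y) {d r c : G}
    (hdx : d • x = x) (hdy : d • y = y) (hd : d ≠ 1) (hr : orderOf r = 2)
    (hrd : r * d * r⁻¹ = d⁻¹) (hc : Commute c d) : r * c * r⁻¹ = c⁻¹ := by
  let C := Subgroup.centralizer ({d} : Set G)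
  have hC : ∀ b : G, b ∈ C ↔ Commute b d := fun b => Subgroup.mem_centralizer_singleton_iff
  have hd1 : d * d ≠ 1 := fun e =>
    hd (eq_one_of_odd_of_sq (odd_orderOf_fix h hxy hdx hdy) e)
  have hmap : ∀ b ∈ C, r * b * r⁻¹ ∈ C := by
    intro b hb
    rw [hC] at hb ⊢
    have h1 : Commute (r * b * r⁻¹) (r * d * r⁻¹) := hb.map (MulAut.conj r).toMonoidHom
    rw [hrd] at h1
    simpa using h1.inv_right
  let φ : C →* C :=
    { toFun := fun b => ⟨r * b * r⁻¹, hmap b b.2⟩
      map_one' := Subtype.ext (by simp)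
      map_mul' := fun a b => Subtype.ext (by simp [mul_assoc]) }
  have hfpf : MonoidHom.FixedPointFree φ := by
    intro b hb
    have hb' : r * (b : G) * r⁻¹ = b := congrArg Subtype.val hb
    by_contra hb1
    have hbr : Commute (b : G) r := (mul_inv_eq_iff_eq_mul.1 hb').symm
    obtain ⟨z, hz⟩ := exists_fixed (isStronglyEmbedded h) hr
    have hbz : (b : G) ∈ Acent T z := mem_Acent_of_commute h hr hz hbr
    have hdz : d • z = z := by
      by_contra hne
      refine hb1 (Subtype.ext (fix_eq_one h hB hbz (y := d • z) (Ne.symm hne) ?_))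
      rw [smul_smul, ((hC _).1 b.2).eq, mul_smul, smul_eq_of_mem_Acent h hbz]
    have hr' : orderOf (d * r * d⁻¹) = 2 := by rw [orderOf_conj_eq]; exact hr
    have hr'z : (d * r * d⁻¹) • z = z := by
      have h1 := conj_smul_fixed (g := d) hz
      rwa [hdz] at h1
    have hdd : d * d ∈ Acent T z := by
      have h1 := mul_mem (involution_mem_Acent h hr' hr'z) (involution_mem_Acent h hr hz)
      have h2 : d * r * d⁻¹ * r = d * d := by
        have h3 : r * d⁻¹ * r⁻¹ = d := by
          have := congrArg (·⁻¹) hrd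
          simpa [mul_assoc] using this
        rw [inv_eq_self_of_involution hr] at h3
        calc d * r * d⁻¹ * r = d * (r * d⁻¹ * r) := by group
          _ = d * d := by rw [h3]
      rwa [h2] at h1
    by_cases e : z = x
    · exact hd1 (fix_eq_one h hB hdd (e ▸ hxy) (by rw [mul_smul, hdy, hdy]))
    · exact hd1 (fix_eq_one h hB hdd e (by rw [mul_smul, hdx, hdx]))
  have hinv : Function.Involutive φ := by
    intro b
    apply Subtype.ext
    show r * (r * (b : G) * r⁻¹) * r⁻¹ = b
    calc r * (r * (b : G) * r⁻¹) * r⁻¹ = (r * r) * b * (r * r)⁻¹ := by group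
      _ = b := by rw [mul_self_eq_one hr]; simp
  have := congrFun (hfpf.coe_eq_inv_of_involutive hinv) ⟨c, (hC c).2 hc⟩
  exact congrArg Subtype.val this

theorem smul_eq_of_commute_pair (h : Hyp T) (hB : Disjoint' T) (hxy : x ≠ y) {d c : G}
    (hdx : d • x = x) (hdy : d • y = y) (hd : d ≠ 1) (hcx : c • x = x) (hc : Commute c d) :
    c • y = y := by
  obtain ⟨u, hu, hux⟩ := exists_swap h hxy
  obtain ⟨i, hi, hix, ha⟩ := decomp h hxy hu hux hcx
  obtain ⟨hp1, hp2⟩ := swap_mul_smul hu hux hi hix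
  have had : Commute ((i * u)⁻¹ * c) d :=
    ((commute_pair h hB hxy hp1 hp2 hdx hdy).inv_left).mul_left hc
  have h1 := inverts_centralizer h hB hxy hdx hdy hd hu (inverts h hB hxy hu hux hdx hdy) had
  rw [inv_eq_self_of_involution hu] at h1
  have h2 := eq_one_of_inverted h ha (odd_of_commute_pair h hB hxy hdx hdy hd had) hu h1
  rw [← inv_mul_eq_one.1 h2, hp2]

/-- A nontrivial element fixing two cosets fixes only these two. -/
theorem fixed_pair (h : Hyp T) (hB : Disjoint' T) {o : G ⧸ normT T} (hoy : o ≠ y) {d : G}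
    (hdo : d • o = o) (hdy : d • y = y) (hd : d ≠ 1) {z : G ⧸ normT T} (hz : d • z = z) :
    z = o ∨ z = y := by
  classical
  obtain ⟨r, hr, hry⟩ := exists_swap h hoy
  have hrd := inverts h hB hoy hr hry hdo hdy
  let A := Subgroup.centralizer ({d} : Set G)
  have hA : ∀ b : G, b ∈ A ↔ Commute b d := fun b => Subgroup.mem_centralizer_singleton_iff
  have hsw : ∀ w : G ⧸ normT T, w ≠ o → d • w = w → ∀ i : G, orderOf i = 2 → i • o = w →
      i * d * i⁻¹ = d⁻¹ := fun w hw hdw i hi hiw => inverts h hB (Ne.symm hw) hi hiw hdo hdw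
  let Φ := {w : G ⧸ normT T // w ≠ o ∧ d • w = w}
  let P := Σ w : Φ, {i : G // orderOf i = 2 ∧ i • o = w.1}
  let f : P → A := fun p => ⟨p.2.1 * r, (hA _).2 (by
    have h1 := hsw p.1.1 p.1.2.1 p.1.2.2 p.2.1 p.2.2.1 p.2.2.2
    show p.2.1 * r * d = d * (p.2.1 * r)
    calc p.2.1 * r * d = p.2.1 * (r * d * r⁻¹) * r := by group
      _ = p.2.1 * d⁻¹ * p.2.1⁻¹ * p.2.1 * r := by rw [hrd]; group
      _ = (p.2.1 * d * p.2.1⁻¹)⁻¹ * (p.2.1 * r) := by group
      _ = d * (p.2.1 * r) := by rw [h1, inv_inv])⟩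
  have hdd : d * d ≠ 1 := fun e =>
    hd (eq_one_of_odd_of_sq (odd_orderOf_fix h hoy hdo hdy) e)
  have hf : Function.Bijective f := by
    refine ⟨?_, ?_⟩
    · rintro ⟨⟨w, hw⟩, i, hi, hiw⟩ ⟨⟨w', hw'⟩, i', hi', hiw'⟩ e
      obtain rfl : i = i' := mul_right_cancel (congrArg Subtype.val e)
      obtain rfl : w = w' := hiw.symm.trans hiw'
      rfl
    · rintro ⟨c, hc⟩
      rw [hA] at hc
      have hcr : r * c * r⁻¹ = c⁻¹ := inverts_centralizer h hB hoy hdo hdy hd hr hrd hc
      have hiinv : c * r * d * (c * r)⁻¹ = d⁻¹ := by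
        calc c * r * d * (c * r)⁻¹ = c * (r * d * r⁻¹) * c⁻¹ := by group
          _ = d⁻¹ := by rw [hrd]; exact mul_inv_eq_iff_eq_mul.2 hc.inv_right.eq
      have hi : orderOf (c * r) = 2 := by
        apply orderOf_eq_prime
        · rw [pow_two]
          calc c * r * (c * r) = c * (r * c * r⁻¹) * (r * r) := by group
            _ = 1 := by rw [hcr, mul_self_eq_one hr]; simp
        · intro e
          have h1 : c = r⁻¹ := eq_inv_of_mul_eq_one_left e
          rw [h1, inv_eq_self_of_involution hr] at hc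
          exact not_commute_involution h hB hoy hdo hdy hd hr hc.symm
      have hfix : d • ((c * r) • o) = (c * r) • o := by
        have h9 : c * r * d⁻¹ * (c * r)⁻¹ = d := by
          have h8 := congrArg (·⁻¹) hiinv
          simpa [mul_assoc] using h8
        rw [smul_smul, show d * (c * r) = c * r * d⁻¹ from (mul_inv_eq_iff_eq_mul.1 h9).symm, mul_smul]
        congr 1
        rw [inv_smul_eq_iff, hdo]
      have hmove : (c * r) • o ≠ o := by
        intro e
        have hj : orderOf (d * (c * r) * d⁻¹) = 2 := by rw [orderOf_conj_eq]; exact hi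
        have hjo : (d * (c * r) * d⁻¹) • o = o := by
          have h1 := conj_smul_fixed (g := d) e
          rwa [hdo] at h1
        have h2 := mul_mem (involution_mem_Acent h hj hjo) (involution_mem_Acent h hi e)
        have h3 : d * (c * r) * d⁻¹ * (c * r) = d * d := by
          have h4 : (c * r) * d⁻¹ * (c * r)⁻¹ = d := by
            have := congrArg (·⁻¹) hiinv
            simpa [mul_assoc] using this
          rw [inv_eq_self_of_involution hi] at h4
          calc d * (c * r) * d⁻¹ * (c * r) = d * ((c * r) * d⁻¹ * (c * r)) := by group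
            _ = d * d := by rw [h4]
        rw [h3] at h2
        exact hdd (fix_eq_one h hB h2 hoy (by rw [mul_smul, hdy, hdy]))
      exact ⟨⟨⟨(c * r) • o, hmove, hfix⟩, c * r, hi, rfl⟩, Subtype.ext (show c * r * r = c by
        rw [mul_assoc, mul_self_eq_one hr, mul_one])⟩
  set m := numInv T with hm
  have hm2 : 2 ≤ m := two_le_card_inv h
  have : Fintype Φ := Fintype.ofFinite _
  have hcardA : Nat.card A = Nat.card Φ * m := by
    rw [← Nat.card_eq_of_bijective f hf, Nat.card_sigma,
      Finset.sum_congr rfl (fun w _ => card_swapping (isStronglyEmbedded h) (Ne.symm w.2.1)),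
      Finset.sum_const, Finset.card_univ, ← Nat.card_eq_fintype_card, smul_eq_mul]
  have hstab : Nat.card (MulAction.stabilizer A o) = m := by
    rw [hm, ← card_pair h hB hoy]
    exact Nat.card_congr
      { toFun := fun c => ⟨(c.1 : G), c.2,
          smul_eq_of_commute_pair h hB hoy hdo hdy hd c.2 ((hA _).1 c.1.2)⟩
        invFun := fun e => ⟨⟨e.1, (hA _).2 (commute_pair h hB hoy e.2.1 e.2.2 hdo hdy)⟩, e.2.1⟩
        left_inv := fun c => rfl
        right_inv := fun e => rfl }
  have horb : Nat.card (MulAction.orbit A o) = Nat.card Φ := by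
    have h1 : Nat.card (MulAction.orbit A o) * Nat.card (MulAction.stabilizer A o) = Nat.card A := by
      rw [Nat.card_congr (MulAction.orbitEquivQuotientStabilizer A o)]
      exact (Subgroup.card_eq_card_quotient_mul_card_subgroup _).symm
    rw [hcardA, hstab] at h1
    exact Nat.eq_of_mul_eq_mul_right (by omega) h1
  have hfixA : ∀ (c : A) (w : G ⧸ normT T), d • w = w → d • (c • w) = c • w := by
    intro c w hw
    show d • ((c : G) • w) = (c : G) • w
    rw [smul_smul, ← ((hA _).1 c.2).eq, mul_smul, hw]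
  have horbfix : ∀ w ∈ MulAction.orbit A o, d • w = w := by
    rintro _ ⟨c, rfl⟩
    exact hfixA c o hdo
  let F := {w : G ⧸ normT T // d • w = w}
  have hcardF : Nat.card F = Nat.card Φ + 1 := by
    have e : F ≃ Option Φ :=
      { toFun := fun w => if e : w.1 = o then none else some ⟨w.1, e, w.2⟩
        invFun := fun w => w.elim ⟨o, hdo⟩ (fun v => ⟨v.1, v.2.2⟩)
        left_inv := fun w => by
          by_cases e : w.1 = o
          · simp [e]; exact Subtype.ext e.symm
          · simp [e]
        right_inv := fun w => by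
          cases w with
          | none => simp
          | some v => simp [v.2.1] }
    rw [Nat.card_congr e, Finite.card_option]
  obtain ⟨w, hwfix, hworb⟩ : ∃ w, d • w = w ∧ w ∉ MulAction.orbit A o := by
    by_contra hcon
    push Not at hcon
    have hle : Nat.card F ≤ Nat.card (MulAction.orbit A o) :=
      Nat.card_le_card_of_injective (fun w => ⟨w.1, hcon w.1 w.2⟩)
        (fun a b e => Subtype.ext (congrArg (fun v : MulAction.orbit A o => v.1) e))
    omega
  have huniq : ∀ v, d • v = v → v ∉ MulAction.orbit A o → v = w := by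
    intro v hv hvo
    let eO : {u : F // u.1 ∈ MulAction.orbit A o} ≃ MulAction.orbit A o :=
      { toFun := fun u => ⟨u.1.1, u.2⟩
        invFun := fun u => ⟨⟨u.1, horbfix u.1 u.2⟩, u.2⟩
        left_inv := fun u => rfl
        right_inv := fun u => rfl }
    have hone : Nat.card {u : F // ¬ u.1 ∈ MulAction.orbit A o} = 1 := by
      have h1 := Nat.card_congr (Equiv.sumCompl (fun u : F => u.1 ∈ MulAction.orbit A o))
      rw [Nat.card_sum, Nat.card_congr eO, horb, hcardF] at h1
      omega
    exact congrArg (fun u : {u : F // ¬ u.1 ∈ MulAction.orbit A o} => u.1.1)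
      ((Nat.card_eq_one_iff_unique.1 hone).1.elim ⟨⟨v, hv⟩, hvo⟩ ⟨⟨w, hwfix⟩, hworb⟩)
  have hwo : w ≠ o := fun e => hworb (by rw [e]; exact MulAction.mem_orbit_self o)
  have hAw : ∀ c : A, c • w = w := by
    intro c
    apply huniq _ (hfixA c w hwfix)
    intro hc
    apply hworb
    obtain ⟨c', hc'⟩ := MulAction.mem_orbit_iff.1 hc
    exact ⟨c⁻¹ * c', by
      show (c⁻¹ * c') • o = w
      rw [mul_smul, hc', inv_smul_smul]⟩
  obtain ⟨i, hi, hiw⟩ := exists_swap h (Ne.symm hwo)
  have hiw' : i • w = o := by rw [← hiw, smul_self_of_involution hi]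
  have hix := hsw w hwo hwfix i hi hiw
  have hAo : ∀ c : A, c • o = o := by
    intro c
    have hc := inverts_centralizer h hB hoy hdo hdy hd hi hix ((hA _).1 c.2)
    have h1 : (c : G)⁻¹ • w = w := hAw c⁻¹
    show (c : G) • o = o
    rw [← hiw', smul_smul, show (c : G) * i = i * (c : G)⁻¹ by
      rw [← hc, inv_eq_self_of_involution hi]
      calc (c : G) * i = (i * i) * c * i := by rw [mul_self_eq_one hi, one_mul]
        _ = i * (i * c * i) := by group, mul_smul, h1]
  have hone : Nat.card (MulAction.orbit A o) = 1 := by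
    rw [Nat.card_eq_one_iff_unique]
    refine ⟨⟨?_⟩, ⟨⟨o, MulAction.mem_orbit_self o⟩⟩⟩
    rintro ⟨a, c, rfl⟩ ⟨b, c', rfl⟩
    exact Subtype.ext ((hAo c).trans (hAo c').symm)
  rw [horb, Nat.card_eq_one_iff_unique] at hone
  by_cases hzo : z = o
  · exact Or.inl hzo
  · exact Or.inr (congrArg Subtype.val (hone.1.elim ⟨z, hzo, hz⟩ ⟨y, Ne.symm hoy, hdy⟩))

end CfsgLib.AbelInv
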