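import Cfsg.Agent.Lib.AbelInv.Zass

/-!
Passing to the quotient by the centre, and the final count in the elementary case.
-/

set_option autoImplicit false

namespace CfsgLib.AbelInv

open Cfsg (IsStronglyEmbedded)
open CfsgLib.Involutions CfsgLib.StrongEmbedding
open CfsgLib.StrongEmbedding.ElementaryCentralizers (normT base mem_normT_iff)

variable {G : Type*} [Group G] [Finite G] {T : Sylow 2 G}

theorem odd_center (h : Hyp T) {z : G} (hz : z ∈ Subgroup.center G) : Odd (orderOf z) := by
  by_contra ho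
  have h2 := orderOf_pow_half (Nat.not_odd_iff_even.1 ho)
  have hc : ∀ g : G, Commute g (z ^ (orderOf z / 2)) := fun g =>
    Subgroup.mem_center_iff.1 (pow_mem hz _) g
  exact h.not_normal ⟨fun x hx g => by
    rw [(commute_of_commute h h2 (hc g) (hc x)).eq, mul_inv_cancel_right]; exact hx⟩

/-- The image of the Sylow subgroup modulo the centre. -/
noncomputable abbrev imageT (T : Sylow 2 G) : Sylow 2 (G ⧸ Subgroup.center G) :=
  haveI : Fact (Nat.Prime 2) := ⟨Nat.prime_two⟩
  T.mapSurjective (QuotientGroup.mk'_surjective (Subgroup.center G))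

theorem lift_involution (h : Hyp T) {x : G ⧸ Subgroup.center G} (hx : orderOf x = 2) :
    ∃ t : G, orderOf t = 2 ∧ QuotientGroup.mk' (Subgroup.center G) t = x := by
  obtain ⟨g, rfl⟩ := QuotientGroup.mk'_surjective (Subgroup.center G) x
  have hg2 : g ^ 2 ∈ Subgroup.center G := by
    rw [← QuotientGroup.eq_one_iff (N := Subgroup.center G), QuotientGroup.mk_pow, ← hx]
    exact pow_orderOf_eq_one _
  obtain ⟨k, hk⟩ := odd_center h hg2
  set n := orderOf (g ^ 2) with hn
  have hmk : QuotientGroup.mk' (Subgroup.center G) (g ^ n) = QuotientGroup.mk' _ g := by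
    rw [hk, map_pow, pow_succ, pow_mul, ← hx, pow_orderOf_eq_one, one_pow, one_mul]
  refine ⟨g ^ n, orderOf_eq_prime ?_ ?_, hmk⟩
  · rw [← pow_mul, mul_comm, pow_mul, hn, pow_orderOf_eq_one]
  · intro e
    rw [e, map_one] at hmk
    rw [← hmk, orderOf_one] at hx
    omega

theorem commute_of_mk (h : Hyp T) {g t : G} (ht : orderOf t = 2)
    (hc : Commute (QuotientGroup.mk' (Subgroup.center G) g) (QuotientGroup.mk' _ t)) :
    Commute g t := by
  set z := t⁻¹ * (g * t * g⁻¹) with hz
  have hzc : z ∈ Subgroup.center G := by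
    rw [← QuotientGroup.ker_mk' (Subgroup.center G), MonoidHom.mem_ker, hz, map_mul, map_mul,
      map_mul, map_inv, map_inv, hc.eq, mul_inv_cancel_right, inv_mul_cancel]
  have hct : Commute t z := Subgroup.mem_center_iff.1 hzc t
  have e : g * t * g⁻¹ = t * z := by rw [hz]; group
  have h1 : z * z = 1 := by
    have h2 : (g * t * g⁻¹) ^ 2 = 1 := by
      rw [conj_pow, ← ht, pow_orderOf_eq_one, mul_one, mul_inv_cancel]
    rw [e, hct.mul_pow, ← ht, pow_orderOf_eq_one, one_mul, ht, pow_two] at h2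
    exact h2
  rw [eq_one_of_odd_of_sq (odd_center h hzc) h1, mul_one] at e
  exact mul_inv_eq_iff_eq_mul.1 e

theorem center_le_AT : Subgroup.center G ≤ AT T := fun _ hz =>
  Subgroup.mem_centralizer_iff.2 fun x _ => Subgroup.mem_center_iff.1 hz x

theorem hyp_quotient (h : Hyp T) : Hyp (imageT T) := by
  have : Fact (Nat.Prime 2) := ⟨Nat.prime_two⟩
  set π := QuotientGroup.mk' (Subgroup.center G) with hπ
  have hcoe : ((imageT T : Sylow 2 _) : Subgroup (G ⧸ Subgroup.center G)) =
      (T : Subgroup G).map π := rfl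
  have hker : ∀ x ∈ (T : Subgroup G), π x = 1 → x = 1 := by
    intro x hx e
    have hc : x ∈ Subgroup.center G := by
      rwa [← QuotientGroup.ker_mk' (Subgroup.center G), MonoidHom.mem_ker]
    obtain ⟨k, hk⟩ := T.isPGroup' ⟨x, hx⟩
    have hk' : x ^ 2 ^ k = 1 := congrArg Subtype.val hk
    obtain ⟨j, -, hj⟩ := (Nat.dvd_prime_pow Nat.prime_two).1 (orderOf_dvd_of_pow_eq_one hk')
    rcases j with _ | j
    · exact orderOf_eq_one_iff.1 (by simpa using hj)
    · have := odd_center h hc
      rw [hj, pow_succ] at this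
      exact absurd (Nat.even_mul.2 (Or.inr even_two)) (Nat.not_even_iff_odd.2 this)
  refine ⟨?_, ?_, ?_⟩
  · intro hcyc
    rw [hcoe] at hcyc
    apply h.not_cyclic
    refine isCyclic_of_injective (π.subgroupMap (T : Subgroup G)) ?_
    rw [injective_iff_map_eq_one]
    intro a ha
    exact Subtype.ext (hker a a.2 (congrArg Subtype.val ha))
  · intro hn
    apply h.not_normal
    refine ⟨fun x hx g => ?_⟩
    rw [hcoe] at hn
    have h1 := hn.conj_mem (π x) (Subgroup.mem_map_of_mem π hx) (π g)
    rw [← map_inv, ← map_mul, ← map_mul] at h1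
    obtain ⟨x', hx', e⟩ := Subgroup.mem_map.1 h1
    have hz : x'⁻¹ * (g * x * g⁻¹) ∈ Subgroup.center G := by
      rw [← QuotientGroup.ker_mk' (Subgroup.center G), MonoidHom.mem_ker, map_mul, map_inv, ← hπ, e,
        inv_mul_cancel]
    refine mem_T_of_isPGroup ?_ (AT_le_normT ?_)
    · obtain ⟨k, hk⟩ := T.isPGroup' ⟨x, hx⟩
      have hk' : x ^ 2 ^ k = 1 := congrArg Subtype.val hk
      rintro ⟨_, i, rfl⟩
      refine ⟨k, Subtype.ext ?_⟩
      show ((g * x * g⁻¹) ^ i) ^ 2 ^ k = 1
      rw [← zpow_natCast, ← zpow_mul, mul_comm, zpow_mul, zpow_natCast, conj_pow, hk', mul_one,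
        mul_inv_cancel, one_zpow]
    · have h2 := mul_mem (T_le_AT h hx') (center_le_AT (T := T) hz)
      rwa [mul_inv_cancel_left] at h2
  · intro s hs
    obtain ⟨t, ht, rfl⟩ := lift_involution h hs
    refine ⟨⟨?_⟩⟩
    rintro ⟨a, ha⟩ ⟨b, hb⟩
    obtain ⟨a, rfl⟩ := QuotientGroup.mk'_surjective (Subgroup.center G) a
    obtain ⟨b, rfl⟩ := QuotientGroup.mk'_surjective (Subgroup.center G) b
    rw [Subgroup.mem_centralizer_singleton_iff] at ha hb
    exact Subtype.ext ((commute_of_commute h ht (commute_of_mk h ht ha)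
      (commute_of_mk h ht hb)).map π).eq

theorem center_quotient (h : Hyp T) :
    Subgroup.center (G ⧸ Subgroup.center G) = ⊥ := by
  rw [eq_bot_iff]
  intro x hx
  obtain ⟨g, rfl⟩ := QuotientGroup.mk'_surjective (Subgroup.center G) x
  rw [Subgroup.mem_bot, ← MonoidHom.mem_ker, QuotientGroup.ker_mk']
  exact mem_center_of_commute_involutions h fun t ht =>
    commute_of_mk h ht (Subgroup.mem_center_iff.1 hx _).symm

theorem elementary_of_sq (h : Hyp T) (hsq : ∀ a ∈ AT T, a ^ 2 = 1) :
    ElementaryCentralizers.Hyp T := by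
  refine ⟨h.not_cyclic, h.not_normal, fun t ht => ⟨h.ab t ht, fun c hc => ?_⟩⟩
  obtain ⟨z, hzT, hz, -⟩ := exists_central_involution h
  obtain ⟨g, hg⟩ := isConj_iff.1 (isConj_involutions (isStronglyEmbedded h) ht hz)
  have h1 : g * c * g⁻¹ ∈ AT T := by
    rw [← centralizer_eq h hzT hz, Subgroup.mem_centralizer_singleton_iff, ← hg]
    have h3 : Commute c t := Subgroup.mem_centralizer_singleton_iff.1 hc
    exact (h3.map (MulAut.conj g).toMonoidHom).eq
  have h2 := hsq _ h1
  rwa [conj_pow, conj_eq_one_iff] at h2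

namespace Elementary

open CfsgLib.StrongEmbedding.ElementaryCentralizers

theorem index_normT {T : Sylow 2 G} (h : ElementaryCentralizers.Hyp T) :
    (normT T).index = Nat.card (T : Subgroup G) + 1 := by
  classical
  obtain ⟨y, hy⟩ := ElementaryCentralizers.exists_ne_base h
  let f : Option (T : Subgroup G) → G ⧸ normT T := fun o => o.elim (base T) (fun t => t.1 • y)
  have hto : ∀ t ∈ (T : Subgroup G), t • base T = base T := fun t ht =>
    mem_normT_iff.1 (Subgroup.le_normalizer ht)
  have hne : ∀ t : (T : Subgroup G), t.1 • y ≠ base T := fun t e => hy (by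
    rw [← inv_smul_smul t.1 y, e, hto _ (inv_mem t.2)])
  have hf : Function.Bijective f := by
    constructor
    · rintro (_ | s) (_ | t) e
      · rfl
      · exact absurd e.symm (hne t)
      · exact absurd e (hne s)
      · obtain ⟨r, -, hr⟩ := T_regular h hy (hne t)
        exact congrArg some (Subtype.ext ((hr s ⟨s.2, e⟩).trans (hr t ⟨t.2, rfl⟩).symm))
    · intro z
      by_cases hz : z = base T
      · exact ⟨none, hz.symm⟩
      · obtain ⟨t, ⟨ht, htz⟩, -⟩ := T_regular h hy hz
        exact ⟨some ⟨t, ht⟩, htz⟩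
  rw [Subgroup.index, ← Nat.card_congr (Equiv.ofBijective f hf), Finite.card_option]

/-- No subgroup of odd order is as large as the set of involutions. -/
theorem no_large_odd {T : Sylow 2 G} (h : ElementaryCentralizers.Hyp T) (D : Subgroup G)
    (hodd : Odd (Nat.card D)) (hle : Nat.card {t : G // orderOf t = 2} ≤ Nat.card D) : False := by
  classical
  have : Fact (Nat.Prime 2) := ⟨Nat.prime_two⟩
  set q := Nat.card (T : Subgroup G) with hq
  have hq4 := four_le_card h
  obtain ⟨y, hy⟩ := ElementaryCentralizers.exists_ne_base h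
  rw [card_involutions (ElementaryCentralizers.isStronglyEmbedded h), index_normT h, card_inv h,
    ← hq] at hle
  obtain ⟨j, hj⟩ := T.isPGroup'.exists_card_eq
  have hcop : Nat.Coprime (Nat.card D) q := by
    rw [hq, hj]
    exact Nat.Coprime.pow_right _ (Nat.coprime_two_right.2 hodd)
  -- the stabiliser in `D` of the base point
  let S0 := MulAction.stabilizer D (base T)
  let S1 : Subgroup G := S0.map D.subtype
  have hS1 : S1 ≤ normT T := by
    rintro _ ⟨d, hd, rfl⟩
    exact mem_normT_iff.2 hd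
  have hS1c : Nat.card S1 = Nat.card S0 :=
    Subgroup.card_map_of_injective D.subtype_injective
  have hdvd : Nat.card S0 ∣ q - 1 := by
    have h1 : Nat.card S0 ∣ q * (q - 1) := by
      have := Subgroup.card_dvd_of_le hS1
      rwa [hS1c, card_normT h hy] at this
    exact (Nat.Coprime.coprime_dvd_left S0.card_subgroup_dvd_card hcop).dvd_of_dvd_mul_left h1
  have hS0le : Nat.card S0 ≤ q - 1 := Nat.le_of_dvd (by omega) hdvd
  have horb : Nat.card (MulAction.orbit D (base T)) * Nat.card S0 = Nat.card D := by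
    rw [Nat.card_congr (MulAction.orbitEquivQuotientStabilizer D (base T))]
    exact (Subgroup.card_eq_card_quotient_mul_card_subgroup _).symm
  have horble : Nat.card (MulAction.orbit D (base T)) ≤ q + 1 := by
    refine (Nat.card_le_card_of_injective (fun v => (v.1 : G ⧸ normT T)) Subtype.val_injective).trans ?_
    rw [← Subgroup.index, index_normT h]
  have hS0eq : Nat.card S0 = q - 1 := by
    by_contra hne
    have h1 : Nat.card (MulAction.orbit D (base T)) * Nat.card S0 < (q + 1) * (q - 1) :=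
      lt_of_le_of_lt (Nat.mul_le_mul_right _ horble)
        (Nat.mul_lt_mul_of_pos_left (lt_of_le_of_ne hS0le hne) (by omega))
    omega
  have horbeq : Nat.card (MulAction.orbit D (base T)) = q + 1 := by
    refine le_antisymm horble ?_
    rw [hS0eq] at horb
    exact Nat.le_of_mul_le_mul_right (hle.trans horb.symm.le) (by omega)
  have hsurj : ∀ z : G ⧸ normT T, ∃ d : D, (d : G) • base T = z := by
    intro z
    have hb : Function.Bijective (fun v : MulAction.orbit D (base T) => (v.1 : G ⧸ normT T)) :=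
      Subtype.val_injective.bijective_of_nat_card_le (by
        rw [← Subgroup.index, index_normT h, horbeq])
    obtain ⟨⟨_, d, rfl⟩, hv⟩ := hb.2 z
    exact ⟨d, hv⟩
  -- a nontrivial element of the stabiliser fixes a second point
  obtain ⟨e, he1⟩ : ∃ e : S0, e ≠ 1 := by
    have := Finite.one_lt_card_iff_nontrivial.1 (show 1 < Nat.card S0 by omega)
    exact exists_ne 1
  set d1 : G := ((e : D) : G) with hd1
  have hd1N : d1 ∈ normT T := mem_normT_iff.2 e.2
  have hd11 : d1 ≠ 1 := fun e' => he1 (Subtype.ext (Subtype.ext e'))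
  have hd1T : d1 ∉ (T : Subgroup G) := by
    intro hT
    have h1 : orderOf d1 = 2 := orderOf_of_mem h hT hd11
    have h2 : orderOf d1 ∣ Nat.card D := Subgroup.orderOf_dvd_natCard D (e : D).2
    rw [h1] at h2
    exact Nat.not_even_iff_odd.2 hodd (even_iff_two_dvd.2 h2)
  obtain ⟨d, hd, t, ht, hdt⟩ := ElementaryCentralizers.decomp h hy hd1N
  have hd0 : d ≠ 1 := fun e' => hd1T (by rw [hdt, e', one_mul]; exact ht)
  have hconjT : ∀ s ∈ (T : Subgroup G), d⁻¹ * s * d ∈ (T : Subgroup G) := fun s hs =>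
    (Subgroup.mem_set_normalizer_iff''.1 (twoStab_le hd) s).1 hs
  let φ : ↥(T : Subgroup G) → ↥(T : Subgroup G) := fun s =>
    ⟨d⁻¹ * s.1 * d * s.1⁻¹, mul_mem (hconjT _ s.2) (inv_mem s.2)⟩
  have hφ : Function.Injective φ := by
    intro a b e'
    have e1 : d⁻¹ * a.1 * d * a.1⁻¹ = d⁻¹ * b.1 * d * b.1⁻¹ := congrArg Subtype.val e'
    have hab : Commute d (b.1⁻¹ * a.1) := by
      show d * (b.1⁻¹ * a.1) = b.1⁻¹ * a.1 * d
      calc d * (b.1⁻¹ * a.1) = b.1⁻¹ * (d * (d⁻¹ * b.1 * d * b.1⁻¹)) * a.1 := by group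
        _ = b.1⁻¹ * a.1 * d := by rw [← e1]; group
    by_contra hne
    exact hd0 (twoStab_inf_T h hy hd (commute_mem h (mul_mem (inv_mem b.2) a.2)
      (fun e2 => hne (Subtype.ext (inv_mul_eq_one.1 e2).symm)) hab))
  obtain ⟨s, hs⟩ := (Finite.injective_iff_surjective.1 hφ) ⟨t, ht⟩
  have hs' : d⁻¹ * s.1 * d * s.1⁻¹ = t := congrArg Subtype.val hs
  have hd1eq : d1 = s.1 * d * s.1⁻¹ := by rw [hdt, ← hs']; group
  set y' := s.1 • y with hy'def
  have hsb : ∀ u ∈ (T : Subgroup G), u • base T = base T := fun u hu =>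
    mem_normT_iff.1 (Subgroup.le_normalizer hu)
  have hy' : y' ≠ base T := fun e' => hy (by
    rw [← inv_smul_smul s.1 y, ← hy'def, e', hsb _ (inv_mem s.2)])
  have hd1y : d1 ∈ twoStab T y' := by
    refine mem_twoStab.2 ⟨e.2, ?_⟩
    rw [hd1eq, hy'def, mul_smul, mul_smul, inv_smul_smul, (mem_twoStab.1 hd).2]
  -- every element of the stabiliser fixes that point
  have hall : ∀ g : D, (g : G) • base T = base T → (g : G) • y' = y' := by
    intro g hg
    obtain ⟨a, ha, b, hb, hab⟩ := ElementaryCentralizers.decomp h hy' (mem_normT_iff.2 hg)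
    have hc : Commute a d1 := commute_twoStab h hy' ha hd1y
    set c := (g : G) * d1 * (g : G)⁻¹ * d1⁻¹ with hcdef
    have hcT : c ∈ (T : Subgroup G) := by
      have hN := twoStab_le (mul_mem ha hd1y)
      have e1 : c = (a * d1) * ((d1⁻¹ * b * d1) * b⁻¹) * (a * d1)⁻¹ := by
        rw [hcdef, hab]
        calc a * b * d1 * (a * b)⁻¹ * d1⁻¹
            = (a * d1) * ((d1⁻¹ * b * d1) * b⁻¹) * (d1 * a)⁻¹ := by group
          _ = _ := by rw [← hc.eq]
      rw [e1]
      exact (Subgroup.mem_set_normalizer_iff.1 hN _).1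
        (mul_mem ((Subgroup.mem_set_normalizer_iff''.1 hd1N b).1 hb) (inv_mem hb))
    have hc1 : c = 1 := by
      by_contra hne
      have hcD : c ∈ D := mul_mem (mul_mem (mul_mem g.2 (e : D).2) (inv_mem g.2)) (inv_mem (e : D).2)
      have h2 : orderOf c ∣ Nat.card D := Subgroup.orderOf_dvd_natCard D hcD
      rw [orderOf_of_mem h hcT hne] at h2
      exact Nat.not_even_iff_odd.2 hodd (even_iff_two_dvd.2 h2)
    have hgd : Commute d1 (g : G) := by
      show d1 * (g : G) = (g : G) * d1
      calc d1 * (g : G) = c⁻¹ * ((g : G) * d1) := by rw [hcdef]; group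
        _ = (g : G) * d1 := by rw [hc1]; simp
    have h3 : d1 • ((g : G) • y') = (g : G) • y' := by
      rw [smul_smul, hgd.eq, mul_smul, (mem_twoStab.1 hd1y).2]
    rcases ElementaryCentralizers.fixed_pair h hy' hd1y hd11 h3 with e1 | e1
    · exact absurd (smul_left_cancel (g : G) (e1.trans hg.symm)) hy'
    · exact e1
  -- swapping the two points
  obtain ⟨r, hr⟩ := hsurj y'
  have hrr : (r : G) • y' = base T := by
    have h1 : ((r⁻¹ * (e : D) * r : D) : G) • base T = base T := by
      simp only [Subgroup.coe_mul, InvMemClass.coe_inv, mul_smul, hr, ← hd1,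
        (mem_twoStab.1 hd1y).2]
      rw [← hr, inv_smul_smul]
    have h2 := hall _ h1
    simp only [Subgroup.coe_mul, InvMemClass.coe_inv, mul_smul, ← hd1] at h2
    rcases ElementaryCentralizers.fixed_pair h hy' hd1y hd11 (inv_smul_eq_iff.1 h2) with e1 | e1
    · exact e1
    · exact absurd (smul_left_cancel (r : G) (e1.trans hr.symm)) hy'
  have ho : Odd (orderOf (r : G)) := hodd.of_dvd_nat (Subgroup.orderOf_dvd_natCard D r.2)
  obtain ⟨k, hk⟩ := ho
  have hsq : ((r : G) ^ 2) • base T = base T := by rw [pow_two, mul_smul, hr, hrr]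
  have hpow : ((r : G) ^ 2) ^ (k + 1) = r := by
    rw [← pow_mul, show 2 * (k + 1) = 2 * k + 1 + 1 by ring, ← hk, pow_succ, pow_orderOf_eq_one,
      one_mul]
  have hfix : (r : G) • base T = base T := by
    have h1 : (r : G) ∈ MulAction.stabilizer G (base T) := hpow ▸ pow_mem hsq (k + 1)
    exact h1
  exact hy' (hr.symm.trans hfix)

end Elementary

end CfsgLib.AbelInv
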