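import Cfsg.Agent.Lib.AbelInv.Main
import Cfsg.Agent.Lib.StrongEmbedding.PSLTwo
import Cfsg.Agent.Lib.Recog.ClassSizesPSLTwoSplit
import Cfsg.Agent.Lib.Schur.SLTwo

/-!
A group with abelian involution centralizers and Sylow 2-subgroups neither cyclic nor normal is
`SL(2, 2^n)` times an abelian group of odd order.
-/

set_option autoImplicit false

namespace CfsgLib.AbelInv

open Subgroup Cfsg
open CfsgLib.Schur
open scoped commutatorElement

universe u

variable {G : Type u} [Group G] [Finite G] {T : Sylow 2 G}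

theorem noMultiplierAt_odd {Q : Type u} [Group Q] [Finite Q] {F : Type} [Field F] [Fintype F]
    [CharP F 2] (e : Q ≃* Matrix.SpecialLinearGroup (Fin 2) F) {p : ℕ} [Fact p.Prime]
    (hp : p ≠ 2) : NoMultiplierAt p Q := by
  have hp' : p.Prime := Fact.out
  obtain ⟨j, -, hj⟩ := FiniteField.card F 2
  have hq : 2 ≤ Fintype.card F := Fintype.one_lt_card
  have hpq : ¬ p ∣ Fintype.card F := by
    rw [hj]
    exact fun hd => hp ((Nat.prime_dvd_prime_iff_eq hp' Nat.prime_two).1 (hp'.dvd_of_dvd_pow hd))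
  have hcard : Nat.card Q = Fintype.card F * ((Fintype.card F - 1) * (Fintype.card F + 1)) :=
    (Nat.card_congr e.toEquiv).trans natCard_slTwo
  by_cases hplus : p ∣ Fintype.card F + 1
  · obtain ⟨c, hc, -⟩ := exists_nonsplit_torus (F := F)
    refine noMultiplierAt_of_cyclic_element (e.symm c)
      (not_dvd_index_zpowers (e.symm c) (d := Fintype.card F * (Fintype.card F - 1)) ?_ ?_)
    · rw [MulEquiv.orderOf_eq, hc, hcard]; ring
    · intro h3
      rcases hp'.dvd_mul.mp h3 with h3 | h3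
      · exact hpq h3
      · have := Nat.dvd_sub hplus h3
        rw [show Fintype.card F + 1 - (Fintype.card F - 1) = 2 by omega] at this
        exact hp ((Nat.prime_dvd_prime_iff_eq hp' Nat.prime_two).mp this)
  · obtain ⟨g, hg⟩ := exists_split_torus (F := F)
    refine noMultiplierAt_of_cyclic_element (e.symm (slDiag g))
      (not_dvd_index_zpowers (e.symm (slDiag g))
        (d := Fintype.card F * (Fintype.card F + 1)) ?_ ?_)
    · rw [MulEquiv.orderOf_eq, hg, hcard]; ring
    · intro h3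
      rcases hp'.dvd_mul.mp h3 with h3 | h3
      · exact hpq h3
      · exact hplus h3

theorem exists_decomposition (h : Hyp T) :
    ∃ (F : Type) (_ : Field F) (_ : Fintype F) (A : Type) (_ : CommGroup A) (_ : Finite A),
      CharP F 2 ∧ Odd (Nat.card A) ∧ Nonempty (G ≃* Matrix.SpecialLinearGroup (Fin 2) F × A) := by
  classical
  have : Fact (Nat.Prime 2) := ⟨Nat.prime_two⟩
  set Z := Subgroup.center G with hZ
  have hE := elementary_quotient h
  obtain ⟨F, iF, iF', hFcard, ⟨e0⟩⟩ := CfsgLib.StrongEmbedding.PSLTwo.exists_psl hE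
  have h4 : 4 ≤ Fintype.card F :=
    hFcard ▸ CfsgLib.StrongEmbedding.ElementaryCentralizers.four_le_card hE
  obtain ⟨j, hj⟩ := (imageT T).isPGroup'.exists_card_eq
  have hchar : CharP F 2 := charP_of_card_eq_prime_pow (f := j) (hFcard.trans hj)
  have hbij : Function.Bijective
      (QuotientGroup.mk' (Subgroup.center (Matrix.SpecialLinearGroup (Fin 2) F))) :=
    ⟨by rw [← MonoidHom.ker_eq_bot_iff, QuotientGroup.ker_mk',
          CfsgLib.StrongEmbedding.PSLTwo.center_sl_two_eq_bot],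
      QuotientGroup.mk'_surjective _⟩
  let e : G ⧸ Z ≃* Matrix.SpecialLinearGroup (Fin 2) F :=
    e0.trans (MulEquiv.ofBijective _ hbij).symm
  have hperf : commutator (G ⧸ Z) = ⊤ := by
    have h1 : Subgroup.map e0.symm.toMonoidHom
        (commutator (Matrix.ProjectiveSpecialLinearGroup (Fin 2) F)) = commutator (G ⧸ Z) := by
      rw [commutator_def, commutator_def, Subgroup.map_commutator,
        Subgroup.map_top_of_surjective _ e0.symm.surjective]
    rw [← h1, (CfsgLib.Recog.ClassSizesPSLTwoSplit.psl_perfect h4).2.1,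
      Subgroup.map_top_of_surjective _ e0.symm.surjective]
  set π := QuotientGroup.mk' Z with hπ
  set L := commutator G with hL
  have hmapL : L.map π = ⊤ := by
    rw [← hperf, hL, commutator_def, commutator_def, Subgroup.map_commutator,
      Subgroup.map_top_of_surjective _ (QuotientGroup.mk'_surjective Z)]
  have hsplit : ∀ g : G, ∃ l ∈ L, ∃ z ∈ Z, g = l * z := by
    intro g
    obtain ⟨l, hl, hlg⟩ := Subgroup.mem_map.1 (hmapL ▸ Subgroup.mem_top (π g) : π g ∈ L.map π)
    exact ⟨l, hl, l⁻¹ * g, QuotientGroup.eq.1 hlg, by group⟩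
  have hLL : L ≤ ⁅L, L⁆ := by
    rw [hL, commutator_def, Subgroup.commutator_le]
    intro a _ b _
    obtain ⟨l, hl, z, hz, rfl⟩ := hsplit a
    obtain ⟨l', hl', z', hz', rfl⟩ := hsplit b
    have hc := fun g => (Subgroup.mem_center_iff.1 hz g)
    have hc' := fun g => (Subgroup.mem_center_iff.1 hz' g)
    have e1 : ⁅l * z, l' * z'⁆ = ⁅l, l'⁆ := by
      simp only [commutatorElement_def, mul_inv_rev]
      calc l * z * (l' * z') * (z⁻¹ * l⁻¹) * (z'⁻¹ * l'⁻¹)
          = l * (z * (l' * z')) * z⁻¹ * l⁻¹ * (z'⁻¹ * l'⁻¹) := by group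
        _ = l * ((l' * z') * z) * z⁻¹ * l⁻¹ * (z'⁻¹ * l'⁻¹) := by rw [hc (l' * z')]
        _ = l * l' * (z' * l⁻¹) * z'⁻¹ * l'⁻¹ := by group
        _ = l * l' * (l⁻¹ * z') * z'⁻¹ * l'⁻¹ := by rw [hc' l⁻¹]
        _ = l * l' * l⁻¹ * l'⁻¹ := by group
    rw [e1]
    exact Subgroup.commutator_mem_commutator hl hl'
  let σ : L →* G ⧸ Z := π.comp L.subtype
  have hker : ∀ x : L, x ∈ σ.ker ↔ (x : G) ∈ Z := fun x => QuotientGroup.eq_one_iff _
  have hσ : IsStemExtension σ := by
    refine ⟨fun q => ?_, fun x hx => ?_, fun x _ => ?_⟩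
    · obtain ⟨l, hl, hlq⟩ := Subgroup.mem_map.1 (hmapL ▸ Subgroup.mem_top q : q ∈ L.map π)
      exact ⟨⟨l, hl⟩, hlq⟩
    · exact Subgroup.mem_center_iff.2 fun g =>
        Subtype.ext (Subgroup.mem_center_iff.1 ((hker x).1 hx) g)
    · obtain ⟨y, hy, hyx⟩ : (x : G) ∈ (commutator L).map L.subtype := by
        rw [Subgroup.map_subtype_commutator]
        exact hLL x.2
      rwa [Subtype.coe_injective hyx] at hy
  have hbot : σ.ker = ⊥ := by
    by_contra hne
    obtain ⟨p, hp, hdvd⟩ := Nat.exists_prime_and_dvd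
      (n := Nat.card σ.ker) (fun h1 => hne (Subgroup.eq_bot_of_card_eq _ h1))
    have : Fact p.Prime := ⟨hp⟩
    obtain ⟨x, hx⟩ := exists_prime_orderOf_dvd_card' p hdvd
    rw [← Subgroup.orderOf_coe] at hx
    have hp2 : p ≠ 2 := by
      intro e'
      have h1 := odd_center h ((hker x).1 x.2)
      rw [Subgroup.orderOf_coe, hx, e'] at h1
      exact absurd h1 (by decide)
    have hx1 : (x : L) = 1 := noMultiplierAt_odd e hp2 L σ hσ x x.2 (by
      rw [← hx, pow_orderOf_eq_one])
    rw [hx1, orderOf_one] at hx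
    exact hp.one_lt.ne' hx.symm
  have hσb : Function.Bijective σ := ⟨(MonoidHom.ker_eq_bot_iff σ).1 hbot, hσ.1⟩
  let μ : L × Z →* G :=
    { toFun := fun p => (p.1 : G) * p.2
      map_one' := by simp
      map_mul' := fun p q => by
        have hc : (p.2 : G) * q.1 = q.1 * p.2 := (Subgroup.mem_center_iff.1 p.2.2 _).symm
        simp only [Prod.fst_mul, Prod.snd_mul, Subgroup.coe_mul]
        calc (p.1 : G) * q.1 * (p.2 * q.2) = p.1 * ((q.1 : G) * p.2) * q.2 := by group
          _ = p.1 * p.2 * (q.1 * q.2) := by rw [← hc]; group }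
  have hμ : Function.Bijective μ := by
    refine ⟨?_, fun g => ?_⟩
    · rw [injective_iff_map_eq_one]
      rintro ⟨l, z⟩ (e1 : (l : G) * z = 1)
      have h1 : l ∈ σ.ker := (hker l).2 (by
        rw [mul_eq_one_iff_eq_inv.1 e1]; exact inv_mem z.2)
      rw [hbot, Subgroup.mem_bot] at h1
      subst h1
      rw [OneMemClass.coe_one, one_mul] at e1
      exact Prod.ext rfl (Subtype.ext e1)
    · obtain ⟨l, hl, z, hz, rfl⟩ := hsplit g
      exact ⟨(⟨l, hl⟩, ⟨z, hz⟩), rfl⟩
  have hodd : Odd (Nat.card Z) := by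
    by_contra ho
    obtain ⟨z, hz⟩ := exists_prime_orderOf_dvd_card' (G := Z) 2 (Nat.not_odd_iff_even.1 ho).two_dvd
    have h1 := odd_center h z.2
    rw [Subgroup.orderOf_coe, hz] at h1
    exact absurd h1 (by decide)
  letI : CommGroup Z :=
    { Z.toGroup with mul_comm := fun a b => Subtype.ext (Subgroup.mem_center_iff.1 b.2 a) }
  let es : Z ≃ Shrink.{0} Z := equivShrink.{0} Z
  letI : CommGroup (Shrink.{0} Z) := es.symm.commGroup
  refine ⟨F, iF, iF', Shrink.{0} Z, inferInstance, Finite.of_equiv Z es, hchar, ?_, ⟨?_⟩⟩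
  · rwa [← Nat.card_congr es]
  · exact (MulEquiv.ofBijective μ hμ).symm.trans
      (((MulEquiv.ofBijective σ hσb).trans e).prodCongr es.symm.mulEquiv.symm)

end CfsgLib.AbelInv
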