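import Cfsg.Agent.Lib.AbelInv.Pairs
import Cfsg.Agent.Lib.PermSmall.FeitBound

/-!
With disjoint common centralizers, the coset action is a Zassenhaus group with abelian kernel, and
the centralizers of involutions have exponent two.
-/

set_option autoImplicit false

namespace CfsgLib.AbelInv

open Cfsg (IsStronglyEmbedded)
open CfsgLib.Involutions CfsgLib.StrongEmbedding
open CfsgLib.StrongEmbedding.ElementaryCentralizers (normT base mem_normT_iff)

variable {G : Type*} [Group G] [Finite G] {T : Sylow 2 G} {y : G ⧸ normT T}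

theorem AT_smul_base {a : G} (ha : a ∈ AT T) : a • base T = base T :=
  mem_normT_iff.1 (AT_le_normT ha)

theorem eq_one_of_AT_fix (h : Hyp T) (hB : Disjoint' T) (hy : y ≠ base T) {a : G} (ha : a ∈ AT T)
    (hay : a • y = y) : a = 1 :=
  fix_eq_one h hB (by rwa [Acent_base h]) (Ne.symm hy) hay

/-- The point stabiliser is the product of the centralizer of `T` and a two-point stabiliser. -/
theorem card_stab (h : Hyp T) (hB : Disjoint' T) (hy : y ≠ base T) :
    Nat.card {g : G // g • base T = base T} = numInv T * Nat.card (AT T) := by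
  obtain ⟨u, hu, hux⟩ := exists_swap h (Ne.symm hy)
  rw [← card_pair h hB (Ne.symm hy), ← Nat.card_prod]
  refine (Nat.card_congr (Equiv.ofBijective
    (fun p : {d : G // d • base T = base T ∧ d • y = y} × AT T =>
      (⟨p.1.1 * p.2.1, by rw [mul_smul, AT_smul_base p.2.2, p.1.2.1]⟩ :
        {g : G // g • base T = base T})) ⟨?_, ?_⟩)).symm
  · rintro ⟨⟨d, hd, hdy⟩, ⟨a, ha⟩⟩ ⟨⟨d', hd', hd'y⟩, ⟨a', ha'⟩⟩ e
    have e' : d * a = d' * a' := congrArg Subtype.val e
    have h1 : d'⁻¹ * d = a' * a⁻¹ := by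
      calc d'⁻¹ * d = d'⁻¹ * (d * a) * a⁻¹ := by group
        _ = a' * a⁻¹ := by rw [e']; group
    have h2 := eq_one_of_AT_fix h hB hy (mul_mem ha' (inv_mem ha)) (by
      rw [← h1, mul_smul, hdy, inv_smul_eq_iff, hd'y])
    rw [h2] at h1
    obtain rfl : d' = d := inv_mul_eq_one.1 h1
    obtain rfl : a = a' := mul_left_cancel e'
    rfl
  · rintro ⟨g, hg⟩
    obtain ⟨i, hi, hix, ha⟩ := decomp h (Ne.symm hy) hu hux hg
    rw [Acent_base h] at ha
    exact ⟨(⟨i * u, swap_mul_smul hu hux hi hix⟩, ⟨_, ha⟩), Subtype.ext (mul_inv_cancel_left _ _)⟩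

/-- The centralizer of `T` is regular on the cosets other than its own. -/
theorem AT_regular (h : Hyp T) (hB : Disjoint' T) {y z : G ⧸ normT T} (hy : y ≠ base T)
    (hz : z ≠ base T) : ∃! a : AT T, (a : G) • y = z := by
  classical
  have hm : 2 ≤ numInv T := two_le_card_inv h
  set m := numInv T with hm'
  have huniq : ∀ a b : AT T, (a : G) • y = (b : G) • y → a = b := by
    intro a b e
    have h1 := eq_one_of_AT_fix h hB hy (mul_mem (inv_mem b.2) a.2) (by
      rw [mul_smul, e, inv_smul_smul])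
    exact Subtype.ext (inv_mul_eq_one.1 h1).symm
  let D1 := {d : {d : G // d • base T = base T ∧ d • y = y} // d.1 ≠ 1}
  let R := {g : {g : G // g • base T = base T} // g.1 ∉ AT T}
  let f : AT T × D1 → R := fun p =>
    ⟨⟨p.1.1 * p.2.1.1 * p.1.1⁻¹, by
      rw [mul_smul, mul_smul, AT_smul_base (inv_mem p.1.2), p.2.1.2.1, AT_smul_base p.1.2]⟩,
      fun hA => p.2.2 (by
        have h1 := mul_mem (mul_mem (inv_mem p.1.2) hA) p.1.2
        rw [show p.1.1⁻¹ * (p.1.1 * p.2.1.1 * p.1.1⁻¹) * p.1.1 = p.2.1.1 by group] at h1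
        exact eq_one_of_AT_fix h hB hy h1 p.2.1.2.2)⟩
  have hsmul : ∀ p : AT T × D1, (p.1.1 * p.2.1.1 * p.1.1⁻¹) • (p.1.1 • y) = p.1.1 • y := by
    intro p
    rw [mul_smul, mul_smul, inv_smul_smul, p.2.1.2.2]
  have hne : ∀ a : AT T, (a : G) • y ≠ base T := fun a e => hy (by
    rw [← inv_smul_smul (a : G) y, e, AT_smul_base (inv_mem a.2)])
  have hf : Function.Injective f := by
    intro p q e
    have e' : p.1.1 * p.2.1.1 * p.1.1⁻¹ = q.1.1 * q.2.1.1 * q.1.1⁻¹ :=
      congrArg (fun v : R => v.1.1) e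
    have hd1 : p.1.1 * p.2.1.1 * p.1.1⁻¹ ≠ 1 := fun e1 => p.2.2 (conj_eq_one_iff.1 e1)
    rcases fixed_pair h hB (Ne.symm (hne p.1)) (f p).1.2 (hsmul p) hd1
      (z := q.1.1 • y) (by show (p.1.1 * p.2.1.1 * p.1.1⁻¹) • _ = _; rw [e']; exact hsmul q) with e1 | e1
    · exact absurd e1 (hne q.1)
    · obtain ⟨a, d⟩ := p
      obtain ⟨b, d'⟩ := q
      obtain rfl : b = a := huniq _ _ e1
      refine Prod.ext rfl (Subtype.ext (Subtype.ext ?_))
      exact mul_left_cancel (mul_right_cancel e')
  have hb : Function.Bijective f := hf.bijective_of_nat_card_le (by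
    have hD : Nat.card D1 = m - 1 := by
      have := Fintype.ofFinite {d : G // d • base T = base T ∧ d • y = y}
      rw [Nat.card_eq_fintype_card, Fintype.card_subtype_compl, hm', ← card_pair h hB (Ne.symm hy),
        Nat.card_eq_fintype_card]
      congr 1
      rw [Fintype.card_eq_one_iff]
      exact ⟨⟨⟨1, one_smul G _, one_smul G _⟩, rfl⟩, fun v => Subtype.ext (Subtype.ext v.2)⟩
    have hR : Nat.card R = m * Nat.card (AT T) - Nat.card (AT T) := by
      have := Fintype.ofFinite {g : G // g • base T = base T}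
      rw [Nat.card_eq_fintype_card, Fintype.card_subtype_compl, hm', ← card_stab h hB hy,
        Nat.card_eq_fintype_card]
      congr 1
      rw [← Nat.card_eq_fintype_card]
      exact Nat.card_congr
        { toFun := fun g => ⟨g.1.1, g.2⟩
          invFun := fun a => ⟨⟨a.1, AT_smul_base a.2⟩, a.2⟩
          left_inv := fun g => rfl
          right_inv := fun a => rfl }
    rw [Nat.card_prod, hD, hR, Nat.mul_sub, mul_one, mul_comm])
  have hzp : 1 < Nat.card {d : G // d • base T = base T ∧ d • z = z} := by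
    rw [card_pair h hB (Ne.symm hz)]; omega
  have := Finite.one_lt_card_iff_nontrivial.1 hzp
  obtain ⟨⟨e, he, hez⟩, he1⟩ := exists_ne
    (⟨1, one_smul G _, one_smul G _⟩ : {d : G // d • base T = base T ∧ d • z = z})
  have he1' : e ≠ 1 := fun e1 => he1 (Subtype.ext e1)
  obtain ⟨⟨a, d⟩, hp⟩ := hb.2 ⟨⟨e, he⟩, fun hA => he1' (eq_one_of_AT_fix h hB hz hA hez)⟩
  have hp' : a.1 * d.1.1 * a.1⁻¹ = e := congrArg (fun v : R => v.1.1) hp
  refine ⟨a, ?_, fun b hb' => huniq b a (hb'.trans ?_)⟩
  all_goals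
    rcases fixed_pair h hB (Ne.symm (hne a)) (f (a, d)).1.2 (hsmul (a, d))
      (fun e1 => he1' (by rw [← hp']; exact e1)) (z := z)
      (by show (a.1 * d.1.1 * a.1⁻¹) • z = z; rw [hp']; exact hez) with e1 | e1
    · exact absurd e1 hz
    · first | exact e1.symm | exact e1

theorem three_fixed (h : Hyp T) (hB : Disjoint' T) {g : G} {x₁ x₂ x₃ : G ⧸ normT T}
    (h12 : x₁ ≠ x₂) (h23 : x₂ ≠ x₃) (h13 : x₁ ≠ x₃) (f1 : g • x₁ = x₁) (f2 : g • x₂ = x₂)
    (f3 : g • x₃ = x₃) : g = 1 := by
  by_contra hg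
  rcases fixed_pair h hB h12 f1 f2 hg f3 with e | e
  · exact h13 e.symm
  · exact h23 e.symm

universe u in
theorem sq_eq_one {G : Type u} [Group G] [Finite G] {T : Sylow 2 G} (h : Hyp T) (hB : Disjoint' T)
    {a : G} (ha : a ∈ AT T) : a ^ 2 = 1 := by
  classical
  obtain ⟨y, hy⟩ := exists_ne_base h
  obtain ⟨u, hu, hux⟩ := exists_swap h (Ne.symm hy)
  have := Fintype.ofFinite G
  have := Fintype.ofFinite (G ⧸ normT T)
  set m := numInv T with hm
  have hm2 : 2 ≤ m := two_le_card_inv h
  have hpair : Nat.card (CfsgLib.PermSmall.Zassenhaus.pairStab G (base T) y) = m :=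
    (Nat.card_congr (Equiv.subtypeEquivRight fun d =>
      CfsgLib.PermSmall.Zassenhaus.mem_pairStab)).trans (card_pair h hB (Ne.symm hy))
  let F : CfsgLib.PermSmall.FeitFrame.Frame G (base T) y :=
    { ne := Ne.symm hy
      three := fun g x y z => three_fixed h hB
      swap := u
      swap_a := hux
      swap_b := by rw [← hux, smul_self_of_involution hu]
      F := AT T
      F_le := fun c hc => AT_smul_base hc
      F_norm := fun g hg c hc => by
        have h1 := conj_mem_Acent (T := T) (x := base T) (Acent_base h ▸ hc) g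
        rwa [hg, Acent_base h] at h1
      regular := fun v w hv hw => AT_regular h hB hv hw
      H_comm := ⟨⟨fun d e => Subtype.ext (commute_pair h hB (Ne.symm hy) d.2.1 d.2.2 e.2.1 e.2.2).eq⟩⟩
      odd := by
        by_contra ho
        obtain ⟨⟨t, ht⟩, hto⟩ := exists_prime_orderOf_dvd_card'
          (G := CfsgLib.PermSmall.Zassenhaus.pairStab G (base T) y) 2
          (Nat.not_odd_iff_even.1 ho).two_dvd
        rw [Subgroup.orderOf_mk] at hto
        have h1 := odd_orderOf_fix h (Ne.symm hy) ht.1 ht.2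
        rw [hto] at h1
        exact absurd h1 (by decide)
      inv := fun s hsa hsb d hd => by
        have hsu : (u * s) • base T = base T ∧ (u * s) • y = y :=
          ⟨by rw [mul_smul, hsa, ← hux, smul_self_of_involution hu], by rw [mul_smul, hsb, hux]⟩
        have h1 := inverts h hB (Ne.symm hy) hu hux hd.1 hd.2
        have h2 := (commute_pair h hB (Ne.symm hy) hsu.1 hsu.2 hd.1 hd.2).eq
        calc s * d * s⁻¹ = u⁻¹ * (u * s * d * (u * s)⁻¹) * u := by group
          _ = u * d * u⁻¹ := by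
            rw [h2, mul_inv_cancel_right, inv_eq_self_of_involution hu]
          _ = d⁻¹ := h1 }
  have hle : Fintype.card (G ⧸ normT T) - 2 ≤ 2 * Nat.card F.H :=
    F.card_le ⟨⟨fun c d => Subtype.ext (AT_comm h c.2 d.2).eq⟩⟩ (by
      show 1 < Nat.card (CfsgLib.PermSmall.Zassenhaus.pairStab G (base T) y)
      omega)
  have hF : Nat.card (AT T) = Fintype.card (G ⧸ normT T) - 1 := F.card_F
  have hH : Nat.card F.H = m := hpair
  -- the elements of order at most two form more than half of the centralizer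
  let S : Subgroup G :=
    { carrier := {c | c ∈ AT T ∧ c ^ 2 = 1}
      mul_mem' := fun {a b} ha hb => ⟨mul_mem ha.1 hb.1, by
        rw [(AT_comm h ha.1 hb.1).mul_pow, ha.2, hb.2, one_mul]⟩
      one_mem' := ⟨one_mem _, one_pow 2⟩
      inv_mem' := fun {a} ha => ⟨inv_mem ha.1, by rw [inv_pow, ha.2, inv_one]⟩ }
  have hS : S ≤ AT T := fun c hc => hc.1
  have hcardS : m + 1 ≤ Nat.card S := by
    let g : Option {t : G // orderOf t = 2 ∧ t ∈ normT T} → S := fun o => o.elim 1
      (fun t => ⟨t.1, T_le_AT h (involution_mem_T t.2.1 t.2.2), by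
        have e := pow_orderOf_eq_one t.1; rwa [t.2.1] at e⟩)
    have hg : Function.Injective g := by
      rintro (_ | ⟨t, ht, htN⟩) (_ | ⟨s, hs, hsN⟩) e
      · rfl
      · exact absurd (congrArg Subtype.val e).symm (ne_one_of_involution hs)
      · exact absurd (congrArg Subtype.val e) (ne_one_of_involution ht)
      · obtain rfl : t = s := congrArg Subtype.val e
        rfl
    have := Nat.card_le_card_of_injective g hg
    rw [Finite.card_option] at this
    exact this
  by_contra hne
  have hlt : Nat.card S ≠ Nat.card (AT T) := fun e => by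
    have := Subgroup.eq_of_le_of_card_ge hS e.ge
    rw [← this] at ha
    exact hne ha.2
  have hdvd := Subgroup.card_dvd_of_le hS
  obtain ⟨k, hk⟩ := hdvd
  have hk2 : 2 ≤ k := by
    rcases k with _ | _ | k
    · have := Nat.card_pos (α := AT T); omega
    · omega
    · omega
  have : Nat.card S * 2 ≤ Nat.card S * k := Nat.mul_le_mul_left _ hk2
  omega

end CfsgLib.AbelInv
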